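import Cfsg.Agent.Known.OrthMinDegree.Odd.Basic
import Cfsg.Agent.Known.OrthMinDegree.Class
import Cfsg.Agent.Known.OmegaTransitive
import Cfsg.Agent.Classical.Misc.Spinor

/-! The classes of the involutions fixing a non-singular line. -/

set_option autoImplicit false
set_option linter.unusedSectionVars false
set_option linter.style.haveILetI false

open Matrix Cfsg.Lib.Classical Cfsg.Lib.Classical.Refl Cfsg.Lib.Classical.HypQuad Cfsg.Lib.SLMinDeg

namespace Cfsg.Lib.OrthMinDeg

universe u v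

section Gen

variable {F : Type u} [Field F] {ι : Type} [Fintype ι] [DecidableEq ι] (Q : QuadraticForm F (ι → F))

/-- The negation. -/
def negI : Cfsg.isometryGroup F (⇑Q) :=
  ⟨Units.mk (-1 : Matrix ι ι F) (-1) (by simp) (by simp), (mem_iff Q).mpr fun x => by
    show Q ((-1 : Matrix ι ι F) *ᵥ x) = Q x
    rw [neg_mulVec, one_mulVec, QuadraticMap.map_neg]⟩

/-- Minus a reflection. -/
def negRefl (v : ι → F) (hv : Q v ≠ 0) : Cfsg.isometryGroup F (⇑Q) := negI Q * refl Q v hv

theorem negRefl_mulVec (v : ι → F) (hv : Q v ≠ 0) (x : ι → F) :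
    mat Q (negRefl Q v hv) *ᵥ x = ((Q v)⁻¹ * QuadraticMap.polar (⇑Q) v x) • v - x := by
  rw [negRefl, mat, Refl.mulVec_mul, coe_refl, mulVec_eq]
  show (-1 : Matrix ι ι F) *ᵥ _ = _
  rw [neg_mulVec, one_mulVec, neg_sub]

theorem negRefl_conj (g : Cfsg.isometryGroup F (⇑Q)) (v : ι → F) (hv : Q v ≠ 0) :
    g * negRefl Q v hv * g⁻¹ = negRefl Q (mat Q g *ᵥ v) (by rw [(mem_iff Q).mp g.2]; exact hv) := by
  have hc : g * negI Q = negI Q * g := by
    refine Subtype.ext (Units.ext ?_)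
    show ((g : GL ι F) : Matrix ι ι F) * (-1) = (-1) * ((g : GL ι F) : Matrix ι ι F)
    rw [mul_neg, neg_mul, mul_one, one_mul]
  rw [negRefl, negRefl, ← refl_conj Q g v hv, ← mul_assoc g, hc]
  group

theorem negRefl_fix (v : ι → F) (hv : Q v ≠ 0) : mat Q (negRefl Q v hv) *ᵥ v = v := by
  rw [negRefl_mulVec, QuadraticMap.polar_self, nsmul_eq_mul, Nat.cast_ofNat, mul_comm (2 : F),
    ← mul_assoc, inv_mul_cancel₀ hv, one_mul]
  module

theorem negRefl_neg (v : ι → F) (hv : Q v ≠ 0) (hv' : Q (-v) ≠ 0) : negRefl Q (-v) hv' = negRefl Q v hv := by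
  refine ext_mulVec Q fun x => ?_
  rw [negRefl_mulVec, negRefl_mulVec, QuadraticMap.map_neg, QuadraticMap.polar_neg_left]
  module

theorem negRefl_inj (h2 : (2 : F) ≠ 0) {v w : ι → F} (hv : Q v ≠ 0) (hw : Q w ≠ 0) (hQ : Q v = Q w)
    (h : negRefl Q v hv = negRefl Q w hw) : v = w ∨ v = -w := by
  have h1 := negRefl_fix Q v hv
  rw [h, negRefl_mulVec, sub_eq_iff_eq_add, ← two_smul F v] at h1
  set t := (Q w)⁻¹ * QuadraticMap.polar (⇑Q) w v / 2 with ht
  have e : v = t • w := by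
    rw [ht, div_eq_inv_mul, mul_smul, h1, smul_smul, inv_mul_cancel₀ h2, one_smul]
  have e2 : t * t = 1 := by
    have := hQ
    rw [e, QuadraticMap.map_smul, smul_eq_mul] at this
    exact mul_right_cancel₀ hw (by rw [one_mul]; exact this)
  rcases mul_self_eq_one_iff.mp e2 with h' | h' <;> rw [h'] at e
  · exact Or.inl (by rw [e, one_smul])
  · exact Or.inr (by rw [e, neg_one_smul])

/-- The elements of `Ω` are transitive on the lines of a given non-zero value. -/
theorem exists_move_norm [Fintype F] (hQ : (QuadraticMap.polarBilin Q).Nondegenerate) (h2 : (2 : F) ≠ 0)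
    (hn : 5 ≤ Fintype.card ι) {u v : ι → F} (hu : Q u ≠ 0) (huv : Q u = Q v) :
    ∃ g : Cfsg.isometryGroup F (⇑Q), g ∈ Cfsg.Omega F (⇑Q) ∧ (mat Q g *ᵥ u = v ∨ mat Q g *ᵥ u = -v) := by
  have hu0 : u ≠ 0 := fun e => hu (by rw [e, map_zero])
  have hv : Q v ≠ 0 := huv ▸ hu
  have hv0 : v ≠ 0 := fun e => hv (by rw [e, map_zero])
  set e := (LinearEquiv.toSpanNonzeroSingleton F (ι → F) u hu0).symm.trans
    (LinearEquiv.toSpanNonzeroSingleton F (ι → F) v hv0) with he
  have hW : Submodule.span F {v} ⊓ HypQuad.perp Q (Submodule.span F {v}) = ⊥ := by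
    rw [Submodule.eq_bot_iff]
    rintro x ⟨hx, hx'⟩
    obtain ⟨t, rfl⟩ := Submodule.mem_span_singleton.mp hx
    have h := (HypQuad.mem_perp Q).mp hx' v (Submodule.mem_span_singleton_self v)
    rw [QuadraticMap.polar_smul_right, QuadraticMap.polar_self, smul_eq_mul, nsmul_eq_mul, Nat.cast_ofNat] at h
    rw [(mul_eq_zero.mp h).resolve_right (mul_ne_zero h2 hv), zero_smul]
  obtain ⟨g, hg, hgm⟩ := Cfsg.Lib.OmegaCls.omega_nondegenerate hQ (by omega) (Or.inr (by omega))
    (Submodule.span F {u}) (Submodule.span F {v}) hW e (fun x => by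
      obtain ⟨t, ht⟩ := Submodule.mem_span_singleton.mp x.2
      have hx : x = LinearEquiv.toSpanNonzeroSingleton F (ι → F) u hu0 t := Subtype.ext ht.symm
      rw [he, LinearEquiv.trans_apply, hx, LinearEquiv.symm_apply_apply]
      show Q (t • v) = Q (t • u)
      rw [QuadraticMap.map_smul, QuadraticMap.map_smul, huv])
  refine ⟨g, hg, ?_⟩
  have hm : mat Q g *ᵥ u ∈ Submodule.span F {v} := by
    rw [← hgm]; exact Submodule.mem_map_of_mem (f := mulVecLin _) (Submodule.mem_span_singleton_self u)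
  obtain ⟨t, ht⟩ := Submodule.mem_span_singleton.mp hm
  have h := congrArg Q ht
  rw [QuadraticMap.map_smul, (mem_iff Q).mp g.2, smul_eq_mul, huv] at h
  rcases mul_self_eq_one_iff.mp (mul_right_cancel₀ hv (h.trans (one_mul _).symm)) with h' | h' <;> rw [h'] at ht
  · exact Or.inl (by rw [← ht, one_smul])
  · exact Or.inr (by rw [← ht, neg_one_smul])

/-- Twice the class of minus a reflection in `Ω` is the number of vectors of its value. -/
theorem card_class_negRefl [Fintype F] (hQ : (QuadraticMap.polarBilin Q).Nondegenerate) (h2 : (2 : F) ≠ 0)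
    (hn : 5 ≤ Fintype.card ι) {v : ι → F} (hv : Q v ≠ 0) (hs : negRefl Q v hv ∈ Cfsg.Omega F (⇑Q)) :
    2 * Nat.card {x : ↥(Cfsg.Omega F (⇑Q)) // IsConj (⟨_, hs⟩ : ↥(Cfsg.Omega F (⇑Q))) x} =
      Nat.card {u : ι → F // Q u = Q v} := by
  classical
  let U := {u : ι → F // Q u = Q v}
  have hu : ∀ u : U, Q u.1 ≠ 0 := fun u => u.2.symm ▸ hv
  have hexi : ∀ u : U, ∃ g : ↥(Cfsg.Omega F (⇑Q)),
      g.1 * negRefl Q v hv * g.1⁻¹ = negRefl Q u.1 (hu u) := fun u => by
    obtain ⟨g, hg, hgu⟩ := exists_move_norm Q hQ h2 hn hv u.2.symm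
    refine ⟨⟨g, hg⟩, ?_⟩
    rw [negRefl_conj]
    rcases hgu with h | h
    · simp only [h]
    · simp only [h]; exact negRefl_neg Q u.1 (hu u) _
  choose g hg using hexi
  let π : U → {x : ↥(Cfsg.Omega F (⇑Q)) // IsConj (⟨_, hs⟩ : ↥(Cfsg.Omega F (⇑Q))) x} := fun u =>
    ⟨g u * ⟨_, hs⟩ * (g u)⁻¹, isConj_iff.mpr ⟨g u, rfl⟩⟩
  have hπ : ∀ u, (π u).1.1 = negRefl Q u.1 (hu u) := fun u => hg u
  haveI := Fintype.ofFinite {x : ↥(Cfsg.Omega F (⇑Q)) // IsConj (⟨_, hs⟩ : ↥(Cfsg.Omega F (⇑Q))) x}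
  rw [show Nat.card {u : ι → F // Q u = Q v} = Nat.card U from rfl, Nat.card_congr (Equiv.sigmaFiberEquiv π).symm,
    Nat.card_sigma, Finset.sum_congr rfl fun x _ => ?_, Finset.sum_const, Finset.card_univ,
    ← Nat.card_eq_fintype_card (α := {x : ↥(Cfsg.Omega F (⇑Q)) // _}), smul_eq_mul, mul_comm]
  obtain ⟨c, hc⟩ := isConj_iff.mp x.2
  have hQc : Q (mat Q c.1 *ᵥ v) = Q v := (mem_iff Q).mp c.1.2 _
  set u₀ : U := ⟨mat Q c.1 *ᵥ v, hQc⟩
  have hx : π u₀ = x := Subtype.ext (Subtype.ext (by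
    rw [hπ, ← hc]
    exact (negRefl_conj Q c.1 v hv).symm))
  set u₁ : U := ⟨-u₀.1, (QuadraticMap.map_neg Q _).trans u₀.2⟩
  have hne : u₁ ≠ u₀ := fun e => hv (by
    have e' : -u₀.1 = u₀.1 := congrArg Subtype.val e
    rw [← u₀.2, show u₀.1 = 0 from smul_right_injective (ι → F) h2 (show (2 : F) • u₀.1 = (2 : F) • 0 by
      rw [smul_zero, two_smul]; nth_rewrite 1 [← e']; rw [neg_add_cancel]), map_zero])
  rw [Nat.card_eq_fintype_card, Fintype.card_subtype,
    show (Finset.univ.filter fun u => π u = x) = {u₀, u₁} from ?_, Finset.card_pair hne.symm]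
  ext u
  rw [Finset.mem_filter, Finset.mem_insert, Finset.mem_singleton]
  constructor
  · rintro ⟨-, hu'⟩
    have h := congrArg (fun z => z.1.1) (hu'.trans hx.symm)
    simp only [hπ] at h
    rcases negRefl_inj Q h2 _ _ (u.2.trans u₀.2.symm) h with e | e
    · exact Or.inl (Subtype.ext e)
    · exact Or.inr (Subtype.ext e)
  · rintro (rfl | rfl)
    · exact ⟨Finset.mem_univ _, hx⟩
    · refine ⟨Finset.mem_univ _, hx ▸ Subtype.ext (Subtype.ext ?_)⟩
      rw [hπ, hπ]
      exact negRefl_neg Q _ _ _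

end Gen

/-- A rational character value gives a divisibility by the degree. -/
theorem class_dvd {G : Type u} {M : Type v} [Group G] [Finite G] [AddCommGroup M] [Module ℂ M] [FiniteDimensional ℂ M]
    (ρ : G →* Module.End ℂ M) (hirr : IsIrr ρ) (hd : 2 ≤ Module.finrank ℂ M) (g : G) {T : ℤ}
    (hT : LinearMap.trace ℂ M (ρ g) = (T : ℂ)) :
    (Module.finrank ℂ M : ℤ) ∣ (Nat.card {x : G // IsConj g x} : ℤ) * T := by
  haveI : Nontrivial M := Module.nontrivial_of_finrank_pos (by omega : 0 < Module.finrank ℂ M)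
  haveI : Representation.IsIrreducible (ρ : Representation ℂ _ M) := by
    refine { exists_pair_ne := ⟨⊥, ⊤, fun h => bot_ne_top (congrArg Subrepresentation.toSubmodule h)⟩,
             eq_bot_or_eq_top := fun W => ?_ }
    · rcases hirr W.toSubmodule (fun g x hx => W.apply_mem_toSubmodule g hx) with h | h
      · exact Or.inl (Subrepresentation.toSubmodule_injective h)
      · exact Or.inr (Subrepresentation.toSubmodule_injective h)
  have hint := Cfsg.Lib.Chars.isIntegral_centralChar (ρ : Representation ℂ _ M) g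
  rw [← Cfsg.Lib.Chars.card_isConj] at hint
  have htr : Representation.character (ρ : Representation ℂ _ M) g = (T : ℂ) := hT
  rw [htr] at hint
  set d := Module.finrank ℂ M
  set K := Nat.card {x : G // IsConj g x}
  obtain ⟨z, hz⟩ := Cfsg.Lib.Chars.int_of_isIntegral_rat (q := (K : ℚ) * (T : ℚ) / d) (by push_cast; exact hint)
  refine ⟨z, ?_⟩
  rw [div_eq_iff (by norm_cast; omega)] at hz
  have : (((K : ℤ) * T : ℤ) : ℚ) = ((d * z : ℤ) : ℚ) := by push_cast; linear_combination hz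
  exact_mod_cast this

variable {F : Type u} [Field F] [Fintype F] {k : ℕ}

theorem card_plus_zero : Nat.card {v : Fin (k + 1) ⊕ Fin (k + 1) → F // plusForm (k + 1) F v = 0} =
    (Fintype.card F ^ (k + 1) - 1) * (Fintype.card F ^ k + 1) + 1 := by
  have h0 : plusForm (k + 1) F 0 = 0 := map_zero _
  have h := Set.ncard_sdiff_singleton_add_one
    (s := {v : Fin (k + 1) ⊕ Fin (k + 1) → F | plusForm (k + 1) F v = 0}) (a := 0) h0 (Set.toFinite _)
  have h' : Nat.card {v : Fin (k + 1) ⊕ Fin (k + 1) → F // plusForm (k + 1) F v = 0 ∧ v ≠ 0} =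
      (Fintype.card F ^ (k + 1) - 1) * (Fintype.card F ^ k + 1) := by
    rw [← card_sing]
    exact Nat.card_congr (Equiv.subtypeEquivRight fun u => by rw [plusForm_apply])
  rw [← h']
  exact h.symm

theorem card_plus_value {c : F} (hc : c ≠ 0) :
    Nat.card {v : Fin (k + 1) ⊕ Fin (k + 1) → F // plusForm (k + 1) F v = c} =
      Fintype.card F ^ k * (Fintype.card F ^ (k + 1) - 1) := by
  classical
  set H := fun c : F => Nat.card {v : Fin (k + 1) ⊕ Fin (k + 1) → F // plusForm (k + 1) F v = c}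
  have hscale : ∀ d : F, d ≠ 0 → H d = H 1 := fun d hd => by
    refine Nat.card_congr
      { toFun := fun v => ⟨Sum.elim (v.1 ∘ Sum.inl) (d⁻¹ • (v.1 ∘ Sum.inr)), ?_⟩
        invFun := fun v => ⟨Sum.elim (v.1 ∘ Sum.inl) (d • (v.1 ∘ Sum.inr)), ?_⟩
        left_inv := fun v => Subtype.ext (funext fun i => by rcases i with i | i <;> simp [hd])
        right_inv := fun v => Subtype.ext (funext fun i => by rcases i with i | i <;> simp [hd]) }
    · rw [plus_dot, Sum.elim_comp_inl, Sum.elim_comp_inr, dotProduct_smul, ← plus_dot, v.2, smul_eq_mul,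
        inv_mul_cancel₀ hd]
    · rw [plus_dot, Sum.elim_comp_inl, Sum.elim_comp_inr, dotProduct_smul, ← plus_dot, v.2, smul_eq_mul, mul_one]
  have htot : Fintype.card F ^ (k + 1) * Fintype.card F ^ (k + 1) = H 0 + (Fintype.card F - 1) * H 1 := by
    have e := Nat.card_congr (Equiv.sigmaFiberEquiv (fun v : Fin (k + 1) ⊕ Fin (k + 1) → F => plusForm (k + 1) F v))
    rw [Nat.card_sigma, ← Finset.add_sum_erase _ _ (Finset.mem_univ (0 : F)),
      Finset.sum_congr rfl (fun d hd => hscale d (Finset.ne_of_mem_erase hd)), Finset.sum_const,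
      Finset.card_erase_of_mem (Finset.mem_univ _), Finset.card_univ, smul_eq_mul,
      Nat.card_eq_fintype_card (α := Fin (k + 1) ⊕ Fin (k + 1) → F), Fintype.card_fun, Fintype.card_sum,
      Fintype.card_fin, pow_add] at e
    exact e.symm
  show H c = _
  rw [hscale c hc]
  have h0 : H 0 = _ := card_plus_zero (F := F) (k := k)
  rw [h0] at htot
  have hq := Fintype.one_lt_card (α := F)
  set q := Fintype.card F
  obtain ⟨y, hy⟩ : ∃ y, q ^ k = y := ⟨_, rfl⟩
  have hy0 : 1 ≤ y := hy ▸ Nat.one_le_pow _ _ (by omega)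
  rw [pow_succ, hy] at htot ⊢
  have hb : 1 ≤ y * q := Nat.mul_pos hy0 (by omega)
  have hq1 : 1 ≤ q := by omega
  zify [hb, hq1] at htot ⊢
  refine mul_left_cancel₀ (show ((q : ℤ) - 1) ≠ 0 by omega) ?_
  linear_combination -htot

variable {M : Type v} [AddCommGroup M] [Module ℂ M] [FiniteDimensional ℂ M]

/-- The number of vectors of a given non-zero value. -/
theorem card_odd_value [DecidableEq F] {c : F} (hc : c ≠ 0) :
    Nat.card {v : (Fin (k + 1 + 1) ⊕ Fin (k + 1 + 1)) ⊕ Unit → F // mixForm (k + 1 + 1) (sqForm F) v = c} =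
      Fintype.card F ^ (k + 1 + 1) *
        (Fintype.card F ^ (k + 1 + 1) - 1 + (Finset.univ.filter fun w : F => w * w = c).card) := by
  classical
  let e : {v : (Fin (k + 1 + 1) ⊕ Fin (k + 1 + 1)) ⊕ Unit → F // mixForm (k + 1 + 1) (sqForm F) v = c} ≃
      Σ w : F, {p : Fin (k + 1 + 1) ⊕ Fin (k + 1 + 1) → F // plusForm (k + 1 + 1) F p = c - w * w} :=
    { toFun := fun v => ⟨v.1 (Sum.inr ()), ⟨v.1 ∘ Sum.inl, by
        have := v.2
        rw [← Sum.elim_comp_inl_inr v.1, mix_elim, sqForm_apply] at this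
        exact eq_sub_of_add_eq this⟩⟩
      invFun := fun x => ⟨Sum.elim x.2.1 fun _ => x.1, by rw [mix_elim, sqForm_apply, x.2.2, sub_add_cancel]⟩
      left_inv := fun v => Subtype.ext (funext fun i => by rcases i with i | i <;> rfl)
      right_inv := fun x => rfl }
  rw [Nat.card_congr e, Nat.card_sigma]
  have hterm : ∀ w : F, Nat.card {p : Fin (k + 1 + 1) ⊕ Fin (k + 1 + 1) → F // plusForm (k + 1 + 1) F p = c - w * w} =
      Fintype.card F ^ (k + 1) * (Fintype.card F ^ (k + 1 + 1) - 1) +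
        (if w * w = c then Fintype.card F ^ (k + 1 + 1) else 0) := fun w => by
    by_cases h : w * w = c
    · rw [if_pos h, h, sub_self, card_plus_zero, mul_add, mul_one, mul_comm]
      have h1 := Nat.one_le_pow (k + 1 + 1) (Fintype.card F) Fintype.card_pos
      omega
    · rw [if_neg h, add_zero, card_plus_value (sub_ne_zero.mpr (Ne.symm h))]
  rw [Finset.sum_congr rfl fun w _ => hterm w, Finset.sum_add_distrib, Finset.sum_const, Finset.card_univ,
    ← Finset.sum_filter, Finset.sum_const, smul_eq_mul, smul_eq_mul, ← mul_assoc, ← pow_succ']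
  ring

end Cfsg.Lib.OrthMinDeg
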