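import Cfsg.Agent.Known.OrthMinDegree.Odd.Class
import Cfsg.Agent.Known.LeviOmega

/-! The case where minus one on the hyperbolic part lies in `Ω`. -/

set_option autoImplicit false
set_option linter.unusedSectionVars false
set_option linter.style.haveILetI false

open Matrix Cfsg.Lib.Classical Cfsg.Lib.Classical.Refl Cfsg.Lib.Classical.HypQuad Cfsg.Lib.SLMinDeg

namespace Cfsg.Lib.OrthMinDeg

universe u v

theorem arith_plus {q d f N σ ε : ℤ} {k : ℕ} (hk : 1 ≤ k) (hq : 5 ≤ q) (hσ : σ = 1 ∨ σ = -1) (hε : ε = 1 ∨ ε = -1)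
    (hd : d * (q ^ 2 - 1) = q ^ 2 * ((q ^ (k + 1)) ^ 2 - 1)) (hf : f * (q - 1) = q * (q ^ (k + 1) - 1))
    (hN : N * (q ^ 2 - 1) = (q * q ^ (k + 1) - 1) * (q ^ (k + 1) - 1))
    (h : d ∣ q * q ^ (k + 1) * (q * q ^ (k + 1) + 1) * (σ * f + ε * N)) : False := by
  have hy : q ^ 2 ≤ q ^ (k + 1) := pow_le_pow_right₀ (by omega) (by omega)
  have hqy : q ∣ q ^ (k + 1) := dvd_pow_self q (by omega)
  set y := q ^ (k + 1) with hydef
  have hy25 : 25 ≤ y := by nlinarith
  have h1 : q ^ 2 * (y + 1) ∣ q * y * (q * y + 1) * (σ * q * (q + 1) + ε * (q * y - 1)) := by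
    refine (mul_dvd_mul_iff_left (show y - 1 ≠ 0 by omega)).mp ?_
    rw [show (y - 1) * (q ^ 2 * (y + 1)) = d * (q ^ 2 - 1) by rw [hd]; ring,
      show (y - 1) * (q * y * (q * y + 1) * (σ * q * (q + 1) + ε * (q * y - 1))) =
        q * y * (q * y + 1) * (σ * f + ε * N) * (q ^ 2 - 1) by
          linear_combination (-(q * y * (q * y + 1)) * σ * (q + 1)) * hf - q * y * (q * y + 1) * ε * hN]
    exact mul_dvd_mul_right h _
  have hco : IsCoprime (y + 1) (q * y) := by
    obtain ⟨z, hz⟩ := hqy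
    exact IsCoprime.mul_right ⟨1, -z, by rw [hz]; ring⟩ ⟨1, -1, by ring⟩
  have h2 : y + 1 ∣ (q * y + 1) * (σ * q * (q + 1) + ε * (q * y - 1)) := by
    refine hco.dvd_of_dvd_mul_left ?_
    rw [← mul_assoc]
    exact (dvd_mul_left _ _).trans h1
  have h3 : y + 1 ∣ (q ^ 2 - 1) * (q - σ * ε) := by
    have e : (q ^ 2 - 1) * (q - σ * ε) = (-σ) * ((q * y + 1) * (σ * q * (q + 1) + ε * (q * y - 1))) +
        (y + 1) * (σ * (q * (σ * q * (q + 1) + ε * (q * y - 1)) + (1 - q) * (ε * q))) := by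
      have hs : σ * σ = 1 := by rcases hσ with rfl | rfl <;> norm_num
      linear_combination (-(q * (q ^ 2 - 1))) * hs
    rw [e]
    exact dvd_add (dvd_mul_of_dvd_right h2 _) (dvd_mul_right _ _)
  obtain ⟨e, he, hse⟩ : ∃ e : ℤ, (e = 1 ∨ e = -1) ∧ σ * ε = e := by
    rcases hσ with rfl | rfl <;> rcases hε with rfl | rfl <;> exact ⟨_, by norm_num, rfl⟩
  rw [hse] at h3
  have hpos : 0 < (q ^ 2 - 1) * (q - e) := mul_pos (by nlinarith) (by rcases he with rfl | rfl <;> omega)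
  rcases Nat.lt_or_ge k 3 with hk3 | hk3
  · interval_cases k
    · have h4 : y + 1 ∣ 2 * (q - e) := by
        have := dvd_sub (dvd_mul_right (y + 1) (q - e)) h3
        refine this.trans (dvd_of_eq ?_)
        rw [hydef]; ring
      have := Int.le_of_dvd (by rcases he with rfl | rfl <;> omega) h4
      rw [hydef] at this
      norm_num at this
      rcases he with rfl | rfl <;> nlinarith
    · obtain ⟨c, hc⟩ := h3
      have hc1 : c = 1 := by
        have h0 : 0 < c := pos_of_mul_pos_right (hc ▸ hpos) (by omega)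
        by_contra hne
        have : 2 ≤ c := by omega
        have := mul_le_mul_of_nonneg_left this (show (0 : ℤ) ≤ y + 1 by omega)
        rw [hydef] at this hc
        norm_num at this hc
        rcases he with rfl | rfl <;> nlinarith [mul_le_mul_of_nonneg_left hq (sq_nonneg q), sq_nonneg q]
      subst hc1
      rw [hydef] at hc
      norm_num at hc
      rcases he with rfl | rfl <;> nlinarith [mul_le_mul_of_nonneg_left hq (show (0 : ℤ) ≤ q by omega)]
  · have hy4 : q ^ 4 ≤ y := pow_le_pow_right₀ (by omega) (by omega)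
    have := Int.le_of_dvd hpos h3
    rcases he with rfl | rfl <;> nlinarith

variable {F : Type u} [Field F] [Fintype F] {k : ℕ} {M : Type v} [AddCommGroup M] [Module ℂ M] [FiniteDimensional ℂ M]

theorem levi_mem (hk : 1 ≤ k) {g : GL (Fin (k + 1 + 1)) F} (h : IsSquare (g : Matrix (Fin (k + 1 + 1)) (Fin (k + 1 + 1)) F).det) :
    lvI g ∈ Cfsg.Omega F (⇑(plusForm (k + 1 + 1) F)) := by
  have key : ∀ (f f' : (Fin (k + 1 + 1) ⊕ Fin (k + 1 + 1) → F) → F) (_ : f = f')
      (x : ↥(Cfsg.isometryGroup F f)) (y : ↥(Cfsg.isometryGroup F f')),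
      (x : GL (Fin (k + 1 + 1) ⊕ Fin (k + 1 + 1)) F) = y → y ∈ Cfsg.Omega F f' → x ∈ Cfsg.Omega F f := by
    rintro f f' rfl x y hxy hy
    rwa [Subtype.ext hxy]
  refine key _ _ (funext fun v => plusForm_apply _ v) (lvI g) (Cfsg.Lib.LeviOmega.levi g) (Units.ext ?_)
    ((Cfsg.Lib.LeviOmega.levi_omega_iff (by omega) (Or.inr (by omega)) g).mpr h)
  show mat (plusForm (k + 1 + 1) F) (lvI g) = _
  rw [mat_lvI, Cfsg.Lib.LeviOmega.coe_levi, ← Matrix.coe_units_inv]

theorem lvM_fix_inW (hn : 3 ≤ k + 1 + 1) (g : Matrix.SpecialLinearGroup (Fin (k + 1 + 1)) F) (w : Unit → F) :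
    mat (mixForm (k + 1 + 1) (sqForm F)) (lvM (sqForm F) hn g).1 *ᵥ inW w = inW w := by
  rw [inW]
  refine (embP_mulVec (sqForm F) (lvG hn g).1 0 w).trans ?_
  rw [mulVec_zero]

variable (hk : 1 ≤ k) (hodd : Odd (Fintype.card F)) (h3 : 3 < Fintype.card F) (hn : 3 ≤ k + 1 + 1)
  (ρ : OmM (k + 1 + 1) (sqForm F) →* Module.End ℂ M) (hirr : IsIrr ρ) (hd2 : 2 ≤ Module.finrank ℂ M)
  (hd : Module.finrank ℂ M < BB (Fintype.card F) k)

include hk hodd h3 hn hirr hd2 hd

/-- The equations for the dimensions. -/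
theorem odd_numbers : let q := (Fintype.card F : ℤ)
    (Module.finrank ℂ M : ℤ) * (q ^ 2 - 1) = q ^ 2 * ((q ^ (k + 1)) ^ 2 - 1) ∧
    (ff hn (rhoP (sqForm F) ρ) : ℤ) * (q - 1) = q * (q ^ (k + 1) - 1) ∧
    (Nat.card {L : Module.Dual F (AltM F (k + 1 + 1)) // Dec L} : ℤ) * (q ^ 2 - 1) =
      (q * q ^ (k + 1) - 1) * (q ^ (k + 1) - 1) := by
  intro q
  obtain ⟨hdim, -, -⟩ := odd_shape hk hodd h3 hn ρ hirr hd2 hd
  obtain ⟨hf, -⟩ := odd_ff hk hodd h3 hn ρ hirr hd2 hd
  have hN := N_mul (F := F) hk hodd h3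
  have hS := S_mul (Fintype.card F) (k + 1 + 1) (by omega)
  rw [RR_unit] at hdim
  have h1 : ∀ j, 1 ≤ Fintype.card F ^ j := fun j => Nat.one_le_pow _ _ Fintype.card_pos
  zify [h1 (k + 1), h1 (k + 1 + 1), h1 2, (show 1 ≤ Fintype.card F by omega)] at hf hN hS hdim
  rw [pow_succ (Fintype.card F : ℤ) (k + 1), mul_comm _ (Fintype.card F : ℤ)] at hN hS
  have hf' : (ff hn (rhoP (sqForm F) ρ) : ℤ) * (q - 1) = q * (q ^ (k + 1) - 1) := by
    linear_combination (q - 1) * hf + hS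
  refine ⟨?_, hf', hN⟩
  rw [hdim]
  linear_combination (q + 1) * hf' + q * hN

theorem caseA (hsq : IsSquare ((-1 : F) ^ (k + 1 + 1))) : False := by
  classical
  have h2 := two_ne hodd
  have h0 := sqForm_nondeg (F := F) h2
  obtain ⟨hdim, hdec, hz⟩ := odd_shape hk hodd h3 hn ρ hirr hd2 hd
  obtain ⟨hf, -⟩ := odd_ff hk hodd h3 hn ρ hirr hd2 hd
  set Q := mixForm (k + 1 + 1) (sqForm F)
  set v : (Fin (k + 1 + 1) ⊕ Fin (k + 1 + 1)) ⊕ Unit → F := inW 1
  have hQv : Q v = 1 := by rw [mix_inW, sqForm_apply, Pi.one_apply, mul_one]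
  have hv : Q v ≠ 0 := hQv ▸ one_ne_zero
  have hnd := mix_nondegenerate (n := k + 1 + 1) (sqForm F) h0
  let g0 : GL (Fin (k + 1 + 1)) F := -1
  have hg0 : lvI g0 ∈ Cfsg.Omega F (⇑(plusForm (k + 1 + 1) F)) := levi_mem hk (by
    rw [show ((g0 : GL (Fin (k + 1 + 1)) F) : Matrix (Fin (k + 1 + 1)) (Fin (k + 1 + 1)) F) = -1 from rfl, det_neg,
      det_one, mul_one, Fintype.card_fin]
    exact hsq)
  have hs : negRefl Q v hv ∈ Cfsg.Omega F (⇑Q) := by
    have e : negRefl Q v hv = (glM (sqForm F) g0 hg0).1 := by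
      refine ext_mulVec Q fun x => ?_
      rw [negRefl_mulVec, ← Sum.elim_comp_inl_inr x]
      refine Eq.trans ?_ (embP_mulVec (sqForm F) (lvI g0) (x ∘ Sum.inl) (x ∘ Sum.inr)).symm
      rw [hQv, inv_one, one_mul, polar_mix, polar_sqForm]
      funext i
      rcases i with i | i
      · rw [mat_lvI, fromBlocks_mulVec]
        rcases i with i | i <;> simp [v, inW, g0, neg_mulVec]
      · simp [v, inW]
        ring
    rw [e]; exact (glM (sqForm F) g0 hg0).2
  set s : OmM (k + 1 + 1) (sqForm F) := ⟨_, hs⟩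
  have hslv : ∀ g : Matrix.SpecialLinearGroup (Fin (k + 1 + 1)) F,
      s * lvM (sqForm F) hn g * s⁻¹ = lvM (sqForm F) hn g := fun g => by
    have e := negRefl_conj Q (lvM (sqForm F) hn g).1 v hv
    simp only [v, lvM_fix_inW hn g] at e
    rw [mul_inv_eq_iff_eq_mul]
    refine Subtype.ext ?_
    exact (mul_inv_eq_iff_eq_mul.mp e).symm
  have hsx : ∀ A, s * xM (sqForm F) hn A * s⁻¹ = xM (sqForm F) hn A := fun A => by
    have e := negRefl_conj Q (xM (sqForm F) hn A).1 v hv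
    have hfix : mat Q (xM (sqForm F) hn A).1 *ᵥ v = v := by
      refine (embP_mulVec (sqForm F) (xI A) 0 1).trans ?_
      rw [mulVec_zero]; rfl
    simp only [hfix] at e
    rw [mul_inv_eq_iff_eq_mul]
    exact Subtype.ext (mul_inv_eq_iff_eq_mul.mp e).symm
  have hsu : ∀ (b : Fin (k + 1 + 1) → F) w, s * uM (sqForm F) h0 hn b w * s⁻¹ = uM (sqForm F) h0 hn b (-w) := by
    intro b w
    rw [show uM (sqForm F) h0 hn b (-w) = uM (sqForm F) h0 hn (-b) w by
      rw [← neg_one_smul F b, uM_smul_left, neg_one_smul]]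
    refine Subtype.ext (sgM_conj (sqForm F) h0 hn _ ?_ ?_)
    · show mat Q (negRefl Q v hv) *ᵥ inLp b = _
      rw [negRefl_mulVec, QuadraticMap.polar_comm (⇑Q), polar_Lp_W, mul_zero, zero_smul, zero_sub]
      funext i; rcases i with (i | i) | i <;> simp [inLp, inL]
    · show mat Q (negRefl Q v hv) *ᵥ inW w = _
      rw [negRefl_mulVec, hQv, inv_one, one_mul, polar_W_W, polar_sqForm]
      funext i; rcases i with i | i
      · simp [v, inW]
      · simp [v, inW]; ring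
  have hs2 : ∀ x, ρ s (ρ s x) = x := fun x => by
    have e : s * s = 1 := Subtype.ext (ext_mulVec Q fun y => by
      show mat Q (negRefl Q v hv * negRefl Q v hv) *ᵥ y = mat Q 1 *ᵥ y
      rw [mat, Refl.mulVec_mul, negRefl_mulVec, negRefl_mulVec, QuadraticMap.polar_sub_right,
        QuadraticMap.polar_smul_right, QuadraticMap.polar_self, hQv,
        show mat Q (1 : Cfsg.isometryGroup F (⇑Q)) = 1 from rfl, one_mulVec]
      simp only [smul_eq_mul, nsmul_eq_mul, Nat.cast_ofNat, inv_one, one_mul, mul_one]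
      module)
    rw [← Module.End.mul_apply, ← map_mul, e, map_one, Module.End.one_apply]
  -- the sign on the fixed space
  set W := Eg hn (rhoP (sqForm F) ρ) 0
  have hD := odd_defect hk hodd h3 hn ρ hirr hd2 hd (one_ne_zero (α := F))
  obtain ⟨x, hx, hgx⟩ : ∃ x ∈ W, ρ (lvM (sqForm F) hn (lineT (1 : F))) x ≠ x := by
    by_contra hcon
    push Not at hcon
    rw [trP_zero_of_fixed (sqForm F) hn ρ hcon, sub_self] at hD
    exact pow_ne_zero _ (Nat.cast_ne_zero.mpr Fintype.card_ne_zero) hD.symm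
  have h4 : Fintype.card F ≠ 4 := fun e => absurd hodd (by rw [e]; decide)
  have hsW : ∀ y ∈ W, ρ s y ∈ W := fun y hy =>
    map_mem_eig ρ (f := xM (sqForm F) hn) id Function.surjective_id hsx (fun _ => rfl) hy
  obtain ⟨σ, hσ, hσW⟩ : ∃ σ : ℤ, (σ = 1 ∨ σ = -1) ∧ ∀ y ∈ W, ρ s y = (σ : ℂ) • y := by
    have hU := zero_irr (sqForm F) hn ρ (by omega) hf hx hgx (U := W ⊓ LinearMap.ker (ρ s - 1)) inf_le_left
      (fun g y hy => ⟨lvM_map_zero (sqForm F) hn ρ g hy.1, by
        rw [SetLike.mem_coe, LinearMap.mem_ker, LinearMap.sub_apply, Module.End.one_apply, sub_eq_zero]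
        rw [← Module.End.mul_apply, ← map_mul, mul_inv_eq_iff_eq_mul.mp (hslv g), map_mul, Module.End.mul_apply]
        exact congrArg _ (sub_eq_zero.mp (LinearMap.mem_ker.mp hy.2))⟩)
    rcases hU with hU | hU
    · refine ⟨-1, Or.inr rfl, fun y hy => ?_⟩
      have hm : y + ρ s y ∈ W ⊓ LinearMap.ker (ρ s - 1) := ⟨W.add_mem hy (hsW y hy), by
        rw [SetLike.mem_coe, LinearMap.mem_ker, LinearMap.sub_apply, Module.End.one_apply, map_add, hs2, add_comm, sub_self]⟩
      rw [hU, Submodule.mem_bot] at hm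
      push_cast
      rw [neg_one_smul]
      exact eq_neg_of_add_eq_zero_right hm
    · refine ⟨1, Or.inl rfl, fun y hy => ?_⟩
      have h := (hU.symm ▸ hy : y ∈ W ⊓ LinearMap.ker (ρ s - 1)).2
      rw [SetLike.mem_coe, LinearMap.mem_ker, LinearMap.sub_apply, Module.End.one_apply, sub_eq_zero] at h
      simpa using h
  -- the sign on the other weight spaces
  set L0 := La (k := k) (1 : F)
  obtain ⟨l, hl⟩ := smul_of_line ρ (finrank_VL (sqForm F) h0 hn ρ hdec (one_ne_zero (α := F))) (g := s) (fun y hy =>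
    Submodule.mem_inf.mpr ⟨map_mem_eig ρ (f := xM (sqForm F) hn) id Function.surjective_id hsx (fun _ => rfl) hy.1,
      map_mem_eig ρ (f := uM (sqForm F) h0 hn (Pi.single 1 1)) (fun w => -w) neg_surjective
        (fun w => hsu _ w) (fun _ => rfl) hy.2⟩)
  have hne : VL (sqForm F) h0 hn ρ 1 ≠ ⊥ := fun h => by
    have := finrank_VL (sqForm F) h0 hn ρ hdec (one_ne_zero (α := F))
    rw [h, finrank_bot] at this; omega
  obtain ⟨y, hy, hy0⟩ := Submodule.exists_mem_ne_zero_of_ne_bot hne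
  obtain ⟨ε, hε, hεl⟩ : ∃ ε : ℤ, (ε = 1 ∨ ε = -1) ∧ (ε : ℂ) = l := by
    have e : (l * l) • y = (1 : ℂ) • y := by
      rw [one_smul, ← smul_smul, ← hl y hy, ← map_smul, ← hl y hy, hs2]
    rcases mul_self_eq_one_iff.mp (smul_left_injective ℂ hy0 e) with h | h
    · exact ⟨1, Or.inl rfl, by simp [h]⟩
    · exact ⟨-1, Or.inr rfl, by simp [h]⟩
  have hone : La (k := k) (1 : F) = luv (Pi.single 0 1) (Pi.single 1 1) := one_smul _ _
  have hterm : ∀ L : Module.Dual F (AltM F (k + 1 + 1)), trP ρ (xM (sqForm F) hn) s (chi L) =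
      (if L = 0 then (σ : ℂ) * (ff hn (rhoP (sqForm F) ρ) : ℂ) else 0) + (if Dec L then (ε : ℂ) else 0) := fun L => by
    by_cases hL : L = 0
    · subst hL
      rw [if_pos rfl, if_neg (fun h => h.1 rfl), add_zero, trP_scalar ρ (xM_add (sqForm F) hn) hσW]
      rfl
    rw [if_neg hL, zero_add]
    by_cases hD : Dec L
    swap
    · rw [if_neg hD, trP_scalar ρ (xM_add (sqForm F) hn) (c := 0) (fun x hx => by
        have : x ∈ Eg hn (rhoP (sqForm F) ρ) L := hx
        rw [hz L hL hD, Submodule.mem_bot] at this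
        rw [this, map_zero, smul_zero]), zero_mul]
    rw [if_pos hD]
    obtain ⟨g, rfl⟩ := exists_dec_move hk hD
    rw [← chiPull_cgE, ← trP_conj ρ (cgE g) (fun A => lvM_conj_x (sqForm F) hn g A), ← hone]
    have hcg : lvM (sqForm F) hn g * s * (lvM (sqForm F) hn g)⁻¹ = s := by
      have e := mul_inv_eq_iff_eq_mul.mp (hslv g)
      rw [mul_inv_eq_iff_eq_mul, e]
    rw [hcg, trP_refine_perm ρ (xM_add (sqForm F) hn) (uM_add_right (sqForm F) h0 hn (Pi.single 1 1))
      (fun A w => uM_xM_comm (sqForm F) h0 hn _ A w) s hsx (AddEquiv.neg (Unit → F)) (fun w => hsu _ w) (fun χ hχ => ?_)]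
    · have hp := isProj_two ρ (xM_add (sqForm F) hn) (uM_add_right (sqForm F) h0 hn (Pi.single 1 1))
        (fun A w => uM_xM_comm (sqForm F) h0 hn _ A w) (chi (La (k := k) (1 : F))) 1
      have e : ρ s * (RepEigen.proj ρ (xM (sqForm F) hn) (chi (La (k := k) (1 : F))) *
          RepEigen.proj ρ (uM (sqForm F) h0 hn (Pi.single 1 1)) 1) = l • (RepEigen.proj ρ (xM (sqForm F) hn) (chi (La (k := k) (1 : F))) *
          RepEigen.proj ρ (uM (sqForm F) h0 hn (Pi.single 1 1)) 1) :=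
        LinearMap.ext fun z => by rw [Module.End.mul_apply, LinearMap.smul_apply]; exact hl _ (hp.map_mem z)
      rw [e, map_smul, hp.trace,
        show RepEigen.eig ρ (xM (sqForm F) hn) (chi (La (k := k) (1 : F))) ⊓ RepEigen.eig ρ (uM (sqForm F) h0 hn (Pi.single 1 1)) 1 =
          VL (sqForm F) h0 hn ρ 1 from rfl,
        finrank_VL (sqForm F) h0 hn ρ hdec (one_ne_zero (α := F)), Nat.cast_one, smul_eq_mul, mul_one, hεl]
    · ext w
      have h := DFunLike.congr_fun hχ ((2 : F)⁻¹ • w)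
      rw [chiPull_apply] at h
      have e2 : χ w = χ ((2 : F)⁻¹ • w) * χ ((2 : F)⁻¹ • w) := by
        rw [← AddChar.map_add_eq_mul, ← add_smul, show (2 : F)⁻¹ + (2 : F)⁻¹ = 1 by field_simp; norm_num, one_smul]
      rw [e2, AddChar.one_apply]
      nth_rewrite 1 [← h]
      rw [show (AddEquiv.neg (Unit → F)) ((2 : F)⁻¹ • w) = -((2 : F)⁻¹ • w) from rfl, ← AddChar.map_add_eq_mul,
        neg_add_cancel, AddChar.map_zero_eq_one]
  have htr : LinearMap.trace ℂ M (ρ s) = (((σ * (ff hn (rhoP (sqForm F) ρ) : ℤ) +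
      ε * (Nat.card {L : Module.Dual F (AltM F (k + 1 + 1)) // Dec L} : ℤ)) : ℤ) : ℂ) := by
    rw [trace_eq_sum_trP ρ (xM_add (sqForm F) hn), ← Function.Bijective.sum_comp chi_bijective,
      Finset.sum_congr rfl fun L _ => hterm L, Finset.sum_add_distrib, Finset.sum_ite_eq', if_pos (Finset.mem_univ _),
      ← Finset.sum_filter, Finset.sum_const, nsmul_eq_mul, ← Fintype.card_subtype, ← Nat.card_eq_fintype_card]
    push_cast
    ring
  have hdvd := class_dvd ρ hirr hd2 s htr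
  have hK := card_class_negRefl Q hnd h2 (card_idxM hn) hv hs
  have hcount := card_odd_value (F := F) (k := k) (one_ne_zero (α := F))
  rw [hQv, hcount, show (Finset.univ.filter fun w : F => w * w = 1) = {1, -1} by ext w; simp [mul_self_eq_one_iff],
    Finset.card_pair (fun e : (1 : F) = -1 => h2 (by linear_combination e))] at hK
  obtain ⟨hd', hf', hN'⟩ := odd_numbers hk hodd h3 hn ρ hirr hd2 hd
  have hq5 : 5 ≤ Fintype.card F := by omega
  refine arith_plus (q := (Fintype.card F : ℤ)) hk (by exact_mod_cast hq5) hσ hε hd' hf' hN' ?_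
  refine (hdvd.mul_left 2).trans (dvd_of_eq ?_)
  have hK' : ((2 * Nat.card {x : ↥(Cfsg.Omega F (⇑Q)) // IsConj (⟨_, hs⟩ : ↥(Cfsg.Omega F (⇑Q))) x} : ℕ) : ℤ) =
      (Fintype.card F : ℤ) * (Fintype.card F : ℤ) ^ (k + 1) * ((Fintype.card F : ℤ) * (Fintype.card F : ℤ) ^ (k + 1) + 1) := by
    rw [hK]
    push_cast [Nat.cast_sub (Nat.one_le_pow (k + 1 + 1) (Fintype.card F) Fintype.card_pos)]
    ring
  rw [← hK']
  push_cast
  ring

end Cfsg.Lib.OrthMinDeg
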