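import Cfsg.Agent.Known.OrthMinDegree.Odd.SLInvol
import Cfsg.Agent.Known.OrthMinDegree.Odd.CaseA

/-! The involution on the vectors fixed by the centre of the radical of the next parabolic. -/

set_option autoImplicit false
set_option linter.unusedSectionVars false
set_option linter.style.haveILetI false

open Matrix Cfsg.Lib.Classical Cfsg.Lib.Classical.Refl Cfsg.Lib.Classical.HypQuad Cfsg.Lib.SLMinDeg

namespace Cfsg.Lib.OrthMinDeg

universe u v

section Gen

variable {G M : Type*} [Group G] [AddCommGroup M] [Module ℂ M] [FiniteDimensional ℂ M]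
  (ρ : G →* Module.End ℂ M) {A : Type*} [AddCommGroup A] [Fintype A]

theorem proj_comm₂ {f f2 : A → G} {g : G} (θ : A ≃+ A) (hg : ∀ a, g * f a * g⁻¹ = f2 (θ a)) (χ : AddChar A ℂ) :
    ρ g * RepEigen.proj ρ f (chiPull θ χ) = RepEigen.proj ρ f2 χ * ρ g := by
  have e : ∀ a, ρ g * ρ (f a) = ρ (f2 (θ a)) * ρ g := fun a => by
    rw [← map_mul, ← map_mul, ← hg]; congr 1; group
  simp only [RepEigen.proj, mul_smul_comm, smul_mul_assoc, Finset.mul_sum, Finset.sum_mul, chiPull_apply, map_neg, e]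
  congr 1
  exact Fintype.sum_equiv θ.toEquiv _ _ fun a => rfl

/-- The trace on an invariant subspace through a projection onto it. -/
theorem trace_subRep {H : Type*} [Group H] (σ : H →* Module.End ℂ M) {W : Submodule ℂ M}
    (hW : ∀ g, ∀ x ∈ W, σ g x ∈ W) {P : Module.End ℂ M} (hP : LinearMap.IsProj W P) (g : H) :
    LinearMap.trace ℂ W (subRep σ W hW g) = LinearMap.trace ℂ M (σ g * P) := by
  have hmem : ∀ x, (σ g * P) x ∈ W := fun x => hW g _ (hP.map_mem x)
  rw [← LinearMap.trace_restrict_eq_of_forall_mem W (σ g * P) hmem]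
  congr 1
  refine LinearMap.ext fun x => Subtype.ext ?_
  show σ g x = σ g (P x)
  rw [hP.map_id x x.2]

end Gen

variable {F : Type u} [Field F] [Fintype F] {k : ℕ} {M : Type v} [AddCommGroup M] [Module ℂ M] [FiniteDimensional ℂ M]

/-- The projection forgetting the first coordinate. -/
def prM (F : Type u) [Field F] (k : ℕ) : Matrix (Fin (k + 1 + 1)) (Fin (k + 1 + 1)) F :=
  diagonal (Fin.cons 0 1)

theorem prM_mulVec (a : Fin (k + 1 + 1) → F) : prM F k *ᵥ a = Fin.cons 0 (Fin.tail a) := by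
  funext i
  rw [prM, mulVec_diagonal]
  cases i using Fin.cases <;> simp [Fin.tail]

theorem cons_smul0 (c : F) (β : Fin (k + 1) → F) :
    (Fin.cons 0 (c • β) : Fin (k + 1 + 1) → F) = c • Fin.cons 0 β := by
  funext i; cases i using Fin.cases <;> simp

theorem exists_split (A : AltM F (k + 1 + 1)) :
    ∃ β : Fin (k + 1) → F, A = cg (prM F k) A + wd (Pi.single 0 1) (Fin.cons 0 β) := by
  induction A using alt_induction with
  | h0 => exact ⟨0, by rw [map_zero, zero_add, ← zero_smul F (0 : Fin (k + 1) → F), cons_smul0, wd_smul_right, zero_smul]⟩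
  | hadd A B hA hB =>
    obtain ⟨a, ha⟩ := hA
    obtain ⟨b, hb⟩ := hB
    refine ⟨a + b, ?_⟩
    rw [cons_zero_add, wd_add_right, map_add]
    conv_lhs => rw [ha, hb]
    abel
  | hgen i j c hij =>
    by_cases hi : i = 0
    · subst hi
      obtain ⟨j, rfl⟩ := Fin.exists_succ_eq.mpr hij.symm
      refine ⟨Pi.single j c, ?_⟩
      have e0 : (Fin.cons 0 (Fin.tail (α := fun _ => F) (Pi.single (0 : Fin (k + 1 + 1)) c)) : Fin (k + 1 + 1) → F) = (0 : F) • 0 := by
        funext l; cases l using Fin.cases <;> simp [Fin.tail, Fin.succ_ne_zero]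
      rw [cg_wd, prM_mulVec, e0, wd_smul_left, zero_smul, zero_add,
        show (Pi.single 0 c : Fin (k + 1 + 1) → F) = c • Pi.single 0 1 by rw [← Pi.single_smul, smul_eq_mul, mul_one],
        wd_smul_left, ← wd_smul_right]
      congr 1
      funext l; cases l using Fin.cases <;> simp [Pi.single_apply, (Fin.succ_ne_zero _).symm]
    by_cases hj : j = 0
    · subst hj
      obtain ⟨i, rfl⟩ := Fin.exists_succ_eq.mpr hij
      refine ⟨Pi.single i (-c), ?_⟩
      have e0 : (Fin.cons 0 (Fin.tail (α := fun _ => F) (Pi.single (0 : Fin (k + 1 + 1)) (1 : F))) : Fin (k + 1 + 1) → F) = (0 : F) • 0 := by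
        funext l; cases l using Fin.cases <;> simp [Fin.tail, Fin.succ_ne_zero]
      rw [cg_wd, prM_mulVec, prM_mulVec, e0, wd_smul_right, zero_smul, zero_add,
        wd_swap (Pi.single 0 1) (Pi.single i.succ c : Fin (k + 1 + 1) → F), ← neg_one_smul F (wd _ _), ← wd_smul_right]
      congr 1
      funext l; cases l using Fin.cases <;> simp [Pi.single_apply, (Fin.succ_ne_zero _).symm]
    · obtain ⟨i, rfl⟩ := Fin.exists_succ_eq.mpr hi
      obtain ⟨j, rfl⟩ := Fin.exists_succ_eq.mpr hj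
      refine ⟨0, ?_⟩
      rw [← zero_smul F (0 : Fin (k + 1) → F), cons_smul0, wd_smul_right, zero_smul, add_zero, cg_wd, prM_mulVec,
        prM_mulVec]
      congr 1 <;>
      · funext l; cases l using Fin.cases <;> simp [Fin.tail, (Fin.succ_ne_zero _).symm]

variable (h2 : (2 : F) ≠ 0) (hn : 3 ≤ k + 1 + 1)

/-- The centre of the next parabolic's radical. -/
noncomputable def fC (A : AltM F (k + 1 + 1)) : OmM (k + 1 + 1) (sqForm F) := xM (sqForm F) hn (cg (prM F k) A)

/-- The column transvections of the first vector. -/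
noncomputable def tA (β : Fin (k + 1) → F) : Matrix.SpecialLinearGroup (Fin (k + 1 + 1)) F :=
  tv (Fin.cons 0 β) (Pi.single 0 1) (by rw [single_dotProduct, Fin.cons_zero, mul_zero])

/-- The column of root elements of the first vector. -/
noncomputable def fX (β : Fin (k + 1) → F) : OmM (k + 1 + 1) (sqForm F) :=
  xM (sqForm F) hn (wd (Pi.single 0 1) (Fin.cons 0 β))

theorem fC_add (A B : AltM F (k + 1 + 1)) : fC hn (A + B) = fC hn A * fC hn B := by
  rw [fC, map_add, xM_add]; rfl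

theorem tA_add (a b : Fin (k + 1) → F) : tA (a + b) = tA a * tA b := by
  rw [tA, tA, tA, ← tv_add_left]
  exact tv_congr (cons_zero_add a b) rfl

theorem fA_add (a b : Fin (k + 1) → F) :
    lvM (sqForm F) hn (tA (a + b)) = lvM (sqForm F) hn (tA a) * lvM (sqForm F) hn (tA b) := by rw [tA_add, map_mul]

theorem fX_add (a b : Fin (k + 1) → F) : fX hn (a + b) = fX hn a * fX hn b := by
  rw [fX, fX, fX, cons_zero_add, wd_add_right, xM_add]

theorem fC_zero : fC hn (0 : AltM F (k + 1 + 1)) = 1 := by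
  rw [fC, map_zero, hom_zero (xM_add (sqForm F) hn)]

theorem tA_zero : tA (0 : Fin (k + 1) → F) = 1 := hom_zero tA_add

theorem fX_zero : fX hn (0 : Fin (k + 1) → F) = 1 := hom_zero (fX_add (F := F) hn)

theorem tA_single (i : Fin (k + 1)) (c : F) :
    tA (Pi.single i c) = Matrix.SpecialLinearGroup.transvection (Fin.succ_ne_zero i) c := by
  rw [tA, ← tv_single (Fin.succ_ne_zero i) c (single_dot_single (Fin.succ_ne_zero i) c 1)]
  refine sl_ext ?_
  rw [coe_tv, coe_tv]
  congr 1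
  ext a b
  rw [vecMulVec_apply, vecMulVec_apply]
  cases a using Fin.cases <;> by_cases hb : b = 0 <;>
    simp [hb, Pi.single_apply, (Fin.succ_ne_zero _).symm, mul_comm]

theorem tA_mulVec_pr (β : Fin (k + 1) → F) (A : AltM F (k + 1 + 1)) :
    cg (tA β : Matrix (Fin (k + 1 + 1)) (Fin (k + 1 + 1)) F) (cg (prM F k) A) = cg (prM F k) A := by
  rw [← cg_mul]
  congr 1
  rw [tA, coe_tv, add_mul, one_mul, vecMulVec_mul]
  simp [prM, single_vecMul, vecMulVec]
  exact congrArg _ (add_zero _)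

theorem fC_comm_A (A : AltM F (k + 1 + 1)) (β : Fin (k + 1) → F) :
    fC hn A * lvM (sqForm F) hn (tA β) = lvM (sqForm F) hn (tA β) * fC hn A := by
  have h := lvM_conj_x (sqForm F) hn (tA β) (cg (prM F k) A)
  rw [tA_mulVec_pr, mul_inv_eq_iff_eq_mul] at h
  exact h.symm

theorem fC_comm_X (A : AltM F (k + 1 + 1)) (β : Fin (k + 1) → F) : fC hn A * fX hn β = fX hn β * fC hn A := by
  rw [fC, fX, ← xM_add, ← xM_add]
  exact congrArg (xM (sqForm F) hn) (add_comm _ _)

/-- Negating involution of the parameters. -/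
theorem chi_neg_fix (h2 : (2 : F) ≠ 0) {ι : Type*} [Fintype ι] [DecidableEq ι] {χ : AddChar (ι → F) ℂ} (h : chiPull (AddEquiv.neg (ι → F)) χ = χ) :
    χ = 1 := by
  ext w
  have h' := DFunLike.congr_fun h ((2 : F)⁻¹ • w)
  rw [chiPull_apply] at h'
  have e2 : χ w = χ ((2 : F)⁻¹ • w) * χ ((2 : F)⁻¹ • w) := by
    rw [← AddChar.map_add_eq_mul, ← add_smul, show (2 : F)⁻¹ + (2 : F)⁻¹ = 1 by field_simp; norm_num, one_smul]
  rw [e2, AddChar.one_apply]
  nth_rewrite 1 [← h']
  rw [show (AddEquiv.neg (ι → F)) ((2 : F)⁻¹ • w) = -((2 : F)⁻¹ • w) from rfl, ← AddChar.map_add_eq_mul,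
    neg_add_cancel, AddChar.map_zero_eq_one]

variable (hk : Odd k)

/-- The involution. -/
noncomputable def sInv : OmM (k + 1 + 1) (sqForm F) := ⟨_, sB_mem h2 hn hk⟩

theorem sInv_eq : sInv h2 hn hk = sB h2 hn hk := Subtype.ext (sB_eq h2 hn hk).symm

theorem sInv_mul_self : sInv h2 hn hk * sInv h2 hn hk = 1 := by
  refine Subtype.ext (ext_mulVec _ fun y => ?_)
  show mat _ (negRefl _ (vB F k) Q_vB_ne * negRefl _ (vB F k) Q_vB_ne) *ᵥ y = mat _ 1 *ᵥ y
  rw [mat, Refl.mulVec_mul, negRefl_mulVec, negRefl_mulVec, QuadraticMap.polar_sub_right,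
    QuadraticMap.polar_smul_right, QuadraticMap.polar_self, Q_vB,
    show mat (mixForm (k + 1 + 1) (sqForm F)) (1 : Cfsg.isometryGroup F (⇑(mixForm (k + 1 + 1) (sqForm F)))) = 1 from rfl,
    one_mulVec]
  simp only [smul_eq_mul, nsmul_eq_mul, Nat.cast_ofNat, mul_neg, mul_one, inv_neg, inv_one, neg_mul, one_mul]
  module

theorem polar_vB_Lp (a : Fin (k + 1 + 1) → F) :
    QuadraticMap.polar (⇑(mixForm (k + 1 + 1) (sqForm F))) (vB F k) (inLp a) = -a 0 := by
  rw [vB, inLp, inL, polar_mix]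
  simp [inL_or_inR_coord, dotProduct_single]

theorem negRefl_inLp {a : Fin (k + 1 + 1) → F} (ha : a 0 = 0) :
    mat (mixForm (k + 1 + 1) (sqForm F)) (negRefl _ (vB F k) Q_vB_ne) *ᵥ inLp a = inLp (-a) := by
  rw [negRefl_mulVec, polar_vB_Lp, ha, neg_zero, mul_zero, zero_smul, zero_sub]
  funext i; rcases i with (i | i) | i <;> simp [inLp, inL]

theorem sInv_fC (A : AltM F (k + 1 + 1)) : sInv h2 hn hk * fC hn A * (sInv h2 hn hk)⁻¹ = fC hn A := by
  induction A using alt_induction with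
  | h0 => rw [fC_zero, mul_one, mul_inv_cancel]
  | hadd A B hA hB =>
    rw [fC_add]
    conv_rhs => rw [← hA, ← hB]
    group
  | hgen i j c _ =>
    set a := prM F k *ᵥ (Pi.single i c : Fin (k + 1 + 1) → F)
    set b := prM F k *ᵥ (Pi.single j 1 : Fin (k + 1 + 1) → F)
    have ha : a 0 = 0 := (congrFun (prM_mulVec _) 0).trans (Fin.cons_zero _ _)
    have hb : b 0 = 0 := (congrFun (prM_mulVec _) 0).trans (Fin.cons_zero _ _)
    have e : xM (sqForm F) hn (wd a b) = xM (sqForm F) hn (wd (-a) (-b)) := by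
      rw [← neg_one_smul F a, ← neg_one_smul F b, wd_smul_left, wd_smul_right, smul_smul]
      simp
    rw [fC, cg_wd]
    conv_rhs => rw [e]
    rw [xM_wd (sqForm F) (sqForm_nondeg h2) hn, xM_wd (sqForm F) (sqForm_nondeg h2) hn]
    exact Subtype.ext (sgM_conj (sqForm F) (sqForm_nondeg h2) hn _ (negRefl_inLp hb) (negRefl_inLp ha))

theorem sInv_fA (β : Fin (k + 1) → F) :
    sInv h2 hn hk * lvM (sqForm F) hn (tA β) * (sInv h2 hn hk)⁻¹ = fX hn (-β) := by
  classical
  suffices ∀ s : Finset (Fin (k + 1)), sInv h2 hn hk * lvM (sqForm F) hn (tA (∑ i ∈ s, Pi.single i (β i))) * (sInv h2 hn hk)⁻¹ =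
      fX hn (-∑ i ∈ s, Pi.single i (β i)) by
    have := this Finset.univ
    rwa [Finset.univ_sum_single] at this
  intro s
  induction s using Finset.induction with
  | empty => rw [Finset.sum_empty, neg_zero, tA_zero, map_one, fX_zero, mul_one, mul_inv_cancel]
  | insert i s hi ih =>
    rw [Finset.sum_insert hi, fA_add, neg_add, fX_add, ← ih]
    suffices sInv h2 hn hk * lvM (sqForm F) hn (tA (Pi.single i (β i))) * (sInv h2 hn hk)⁻¹ =
        fX hn (-Pi.single i (β i)) by rw [← this]; group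
    have hp : QuadraticMap.polar (⇑(mixForm (k + 1 + 1) (sqForm F))) (inLp (Pi.single i.succ (-β i)))
        (Sum.elim (inR (Pi.single 0 1)) 0) = 0 := by
      rw [inLp, polar_mix, Sum.elim_comp_inl, Sum.elim_comp_inl, Sum.elim_comp_inr, Sum.elim_comp_inr,
        polar_inL_inR, single_dotProduct, Pi.single_eq_of_ne (Fin.succ_ne_zero i), mul_zero, QuadraticMap.polar_zero_right,
        add_zero]
    have e : wd (Pi.single 0 1) (Fin.cons 0 (-Pi.single i (β i))) =
        wd (Pi.single 0 (-1) : Fin (k + 1 + 1) → F) (Pi.single i.succ (β i)) := by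
      rw [show (Pi.single 0 (-1) : Fin (k + 1 + 1) → F) = (-1 : F) • Pi.single 0 1 by
        rw [← Pi.single_smul, smul_eq_mul, mul_one], wd_smul_left, ← wd_smul_right]
      congr 1
      funext l; cases l using Fin.cases <;> simp [Pi.single_apply, (Fin.succ_ne_zero _).symm]
      split_ifs <;> simp
    rw [tA_single, lvM_transvection (sqForm F) (sqForm_nondeg h2) hn _ _ hp, fX, e, xM_wd (sqForm F) (sqForm_nondeg h2) hn]
    refine Subtype.ext (sgM_conj (sqForm F) (sqForm_nondeg h2) hn _ ?_ ?_)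
    · refine (negRefl_inLp (Pi.single_eq_of_ne (Fin.succ_ne_zero i).symm _)).trans ?_
      rw [← Pi.single_neg, neg_neg]
    · show mat _ (negRefl _ (vB F k) Q_vB_ne) *ᵥ _ = _
      rw [negRefl_mulVec, Q_vB, vB, polar_mix]
      funext l
      rcases l with (l | l) | l <;> simp [inR, inLp, inL, inL_or_inR_coord, single_dotProduct] <;>
        by_cases hl : l = 0 <;> simp [hl]

theorem sInv_fX (β : Fin (k + 1) → F) :
    sInv h2 hn hk * fX hn β * (sInv h2 hn hk)⁻¹ = lvM (sqForm F) hn (tA (-β)) := by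
  have h := sInv_fA h2 hn hk (-β)
  rw [neg_neg] at h
  rw [← h]
  have e := sInv_mul_self h2 hn hk
  have e' : (sInv h2 hn hk)⁻¹ = sInv h2 hn hk := inv_eq_of_mul_eq_one_right e
  rw [e', ← mul_assoc, ← mul_assoc, e, one_mul, mul_assoc, e, mul_one]

/-- The involution of the special linear group. -/
noncomputable def zSL : Matrix.SpecialLinearGroup (Fin (k + 1 + 1)) F := dia (zD F k) (zD_prod hk)

theorem zSL_sq : zSL (F := F) hk * zSL hk = 1 := by
  refine sl_ext ?_
  rw [Matrix.SpecialLinearGroup.coe_mul, zSL, coe_dia, diagonal_mul_diagonal, Matrix.SpecialLinearGroup.coe_one,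
    ← diagonal_one]
  congr 1
  funext i
  cases i using Fin.cases <;> simp [zD]

theorem zSL_tA (β : Fin (k + 1) → F) : zSL hk * tA β * (zSL hk)⁻¹ = tA (-β) := by
  have hi : (zSL (F := F) hk)⁻¹ = zSL hk := inv_eq_of_mul_eq_one_right (zSL_sq hk)
  rw [tA, tv_conj]
  refine tv_congr ?_ ?_
  · funext i
    rw [zSL, coe_dia, mulVec_diagonal]
    cases i using Fin.cases <;> simp [zD]
  · rw [hi]
    funext i
    rw [zSL, coe_dia, vecMul_diagonal]
    cases i using Fin.cases <;> simp [zD, Fin.succ_ne_zero]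

theorem emb_tA (g : Matrix.SpecialLinearGroup (Fin (k + 1)) F) (β : Fin (k + 1) → F) :
    emb g * tA β * (emb g)⁻¹ = tA ((g : Matrix (Fin (k + 1)) (Fin (k + 1)) F) *ᵥ β) := by
  rw [tA, tv_conj]
  refine tv_congr (emb_mulVec g 0 β) ?_
  rw [← map_inv, single_zero_cons, vecMul_emb, zero_vecMul]

variable (hk1 : 1 ≤ k) (hodd : Odd (Fintype.card F)) (h3 : 3 < Fintype.card F)
  (ρ : OmM (k + 1 + 1) (sqForm F) →* Module.End ℂ M) (hirr : IsIrr ρ) (hd2 : 2 ≤ Module.finrank ℂ M)
  (hd : Module.finrank ℂ M < BB (Fintype.card F) k) (hns : ¬ IsSquare (-1 : F))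

include hk1 hodd h3 hirr hd2 hd hns

theorem mix_zero_lemma {b : Fin (k + 1) → F} (hb : b ≠ 0) {x : M}
    (hC : ∀ A, ρ (fC hn A) x = x) (hX : ∀ β, ρ (fX hn β) x = psi0 (-(β ⬝ᵥ b)) • x)
    (hA : ∀ β, ρ (lvM (sqForm F) hn (tA β)) x = psi0 (β ⬝ᵥ b) • x) : x = 0 := by
  classical
  obtain ⟨-, hdec, -⟩ := odd_shape hk1 hodd h3 hn ρ hirr hd2 hd
  have h0 := sqForm_nondeg (F := F) (two_ne hodd)
  obtain ⟨g, hg⟩ : ∃ g : Matrix.SpecialLinearGroup (Fin (k + 1)) F,
      (Pi.single 0 1 : Fin (k + 1) → F) ᵥ* (g : Matrix (Fin (k + 1)) (Fin (k + 1)) F) = -b := by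
    obtain ⟨g₀, hg₀⟩ := exists_vecMul_eq (v := -b) (neg_ne_zero.mpr hb) 0 ⟨Fin.last k, by simp [Fin.ext_iff]; omega⟩
    refine ⟨g₀⁻¹, ?_⟩
    rw [← hg₀, vecMul_vecMul, ← Matrix.SpecialLinearGroup.coe_mul, mul_inv_cancel,
      Matrix.SpecialLinearGroup.coe_one, vecMul_one]
  have hb' : ∀ β, β ⬝ᵥ b = -((Pi.single 0 1 : Fin (k + 1) → F) ⬝ᵥ ((g : Matrix (Fin (k + 1)) (Fin (k + 1)) F) *ᵥ β)) :=
    fun β => by rw [dotProduct_mulVec, hg, neg_dotProduct, neg_neg, dotProduct_comm]
  set L := (luv (Pi.single 0 1) (Pi.single 1 1) : Module.Dual F (AltM F (k + 1 + 1))).comp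
    (cg (emb g : Matrix (Fin (k + 1 + 1)) (Fin (k + 1 + 1)) F)) with hL
  have hLv : L = luv (Pi.single 0 1) (Fin.cons 0 (-b)) := by
    rw [hL, luv_comp, single_zero_cons, single_one_cons, vecMul_emb, vecMul_emb, zero_vecMul, hg]
  have hLC : ∀ A, L (cg (prM F k) A) = 0 := fun A => by
    rw [hLv, show luv (Pi.single 0 1) (Fin.cons 0 (-b)) (cg (prM F k) A) =
      ((luv (Pi.single 0 1) (Fin.cons 0 (-b)) : Module.Dual F (AltM F (k + 1 + 1))).comp (cg (prM F k))) A from rfl,
      luv_comp, prM, show (Pi.single 0 1 : Fin (k + 1 + 1) → F) ᵥ* diagonal (Fin.cons 0 1) = 0 by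
        funext i; rw [vecMul_diagonal]; cases i using Fin.cases <;> simp [Fin.succ_ne_zero],
      luv_apply, zero_dotProduct]
  have hxL : x ∈ Eg hn (rhoP (sqForm F) ρ) L := by
    rw [mem_EgM]
    intro A
    obtain ⟨β, hβ⟩ := exists_split A
    conv_lhs => rw [hβ]
    conv_rhs => rw [hβ]
    rw [xM_add, map_mul, Module.End.mul_apply, map_add, hLC, zero_add]
    show ρ (fC hn A) (ρ (fX hn β) x) = _
    rw [hX, map_smul, hC]
    congr 2
    rw [hLv, ← bf_apply, bf_luv]
    simp [dotProduct_single, single_dotProduct, cons_dot, dotProduct_comm b]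
  set y := ρ (lvM (sqForm F) hn (emb g)) x with hy
  have hone : La (k := k) (1 : F) = luv (Pi.single 0 1) (Pi.single 1 1) := one_smul _ _
  have hyV : y ∈ VV (sqForm F) hn ρ 1 := by
    rw [VV, hone]
    exact map_Eg hn (rhoP (sqForm F) ρ) (Matrix.SpecialLinearGroup.toGL (emb g)) (lvI_mem hn _) _ hxL
  have hlin : ∀ c : F, ρ (lvM (sqForm F) hn (lineT c)) y = psi0 (-c) • y := by
    intro c
    have e : lineT c = tA (Pi.single (0 : Fin (k + 1)) c) := by rw [tA_single, lineT]; rfl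
    set β := ((g⁻¹ : Matrix.SpecialLinearGroup (Fin (k + 1)) F) : Matrix (Fin (k + 1)) (Fin (k + 1)) F) *ᵥ Pi.single 0 c
    have hgβ : (g : Matrix (Fin (k + 1)) (Fin (k + 1)) F) *ᵥ β = Pi.single 0 c := by
      rw [mulVec_mulVec, ← Matrix.SpecialLinearGroup.coe_mul, mul_inv_cancel, Matrix.SpecialLinearGroup.coe_one,
        one_mulVec]
    have e2 : lvM (sqForm F) hn (emb g * tA β * (emb g)⁻¹) * lvM (sqForm F) hn (emb g) =
        lvM (sqForm F) hn (emb g) * lvM (sqForm F) hn (tA β) := by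
      rw [← map_mul, inv_mul_cancel_right, map_mul]
    rw [e, ← hgβ, ← emb_tA, hy, ← Module.End.mul_apply, ← map_mul ρ, e2,
      map_mul, Module.End.mul_apply, hA, map_smul, hb', hgβ, single_dotProduct, Pi.single_eq_same, one_mul]
  have hy0 : y = 0 := by
    rw [show y = ∑ χ, RepEigen.proj ρ (uM (sqForm F) h0 hn (Pi.single 1 1)) χ y from
      (RepEigen.sum_proj_apply ρ (hom_zero (uM_add_right (sqForm F) h0 hn _)) y).symm]
    refine Finset.sum_eq_zero fun χ _ => ?_
    by_contra hne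
    set yt := RepEigen.proj ρ (uM (sqForm F) h0 hn (Pi.single 1 1)) χ y with hyt
    have hytV : yt ∈ VV (sqForm F) hn ρ 1 :=
      RepEigen.proj_mem ρ _ (fun w z hz => uM_map_Eg (sqForm F) h0 hn ρ _ w hz) χ hyV
    have hytE := RepEigen.proj_mem_eig ρ (uM_add_right (sqForm F) h0 hn (Pi.single 1 1)) χ y
    obtain ⟨t, ht⟩ := (prW_bijective (sqForm F) h0 (bf_La_01 (k := k) (one_ne_zero (α := F))).2).2 χ
    have key : ∀ c : F, psi0 (c * (t () * t ())) = psi0 (-c) := by
      intro c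
      obtain ⟨l, hl⟩ := exists_lam (sqForm F) h0 hn ρ hdec (one_ne_zero (α := F)) c
      have h1 := lineT_piece (sqForm F) h0 hn ρ hdec (one_ne_zero (α := F)) hl t
        (Submodule.mem_inf.mpr ⟨hytV, by rw [ht]; exact hytE⟩)
      rw [lam_eq_one (sqForm F) h0 hn ρ hdec (one_ne_zero (α := F)) h3 hl, one_mul, one_mul, sqForm_apply] at h1
      have hcom := proj_comm ρ (AddEquiv.refl (Unit → F)) (g := lvM (sqForm F) hn (lineT c))
        (f := uM (sqForm F) h0 hn (Pi.single 1 1)) (fun w => lineT_conj_one (sqForm F) h0 hn c w) χ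
      have h2 : ρ (lvM (sqForm F) hn (lineT c)) yt = psi0 (-c) • yt := by
        rw [hyt, ← Module.End.mul_apply]
        rw [show chiPull (AddEquiv.refl (Unit → F)) χ = χ from rfl] at hcom
        rw [hcom, Module.End.mul_apply, hlin, map_smul]
      exact smul_left_injective ℂ hne (h1.symm.trans h2)
    refine hns ⟨t (), ?_⟩
    have h := AddChar.to_mulShift_inj_of_isPrimitive psi0_primitive (DFunLike.ext
      (AddChar.mulShift psi0 (t () * t ())) (AddChar.mulShift psi0 (-1)) fun c => by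
        rw [AddChar.mulShift_apply, AddChar.mulShift_apply, mul_comm, key, neg_one_mul])
    exact h.symm
  exact apply_injective ρ _ (hy0.trans (map_zero _).symm)

/-- The trace on the vectors fixed by the centre is a multiple of the bound for the smaller linear group. -/
theorem centre_zero : ∃ e : ℤ, (e = -1 ∨ e = 0 ∨ e = 1) ∧
    trP ρ (fC hn) (sInv h2 hn hk) (chi (0 : Module.Dual F (AltM F (k + 1 + 1)))) =
      ((e * (S (Fintype.card F) (k + 1) : ℤ) : ℤ) : ℂ) := by
  classical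
  have h0 := sqForm_nondeg (F := F) h2
  obtain ⟨hdim, -, -⟩ := odd_shape hk1 hodd h3 hn ρ hirr hd2 hd
  obtain ⟨hf, -⟩ := odd_ff hk1 hodd h3 hn ρ hirr hd2 hd
  set s := sInv h2 hn hk
  set fA : (Fin (k + 1) → F) → OmM (k + 1 + 1) (sqForm F) := fun β => lvM (sqForm F) hn (tA β)
  set neg := AddEquiv.neg (Fin (k + 1) → F)
  set P0 := RepEigen.proj ρ (fC hn) (chi (0 : Module.Dual F (AltM F (k + 1 + 1))))
  have hP0e : ∀ x, P0 x ∈ RepEigen.eig ρ (fC hn) (chi (0 : Module.Dual F (AltM F (k + 1 + 1)))) :=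
    RepEigen.proj_mem_eig ρ (fC_add hn) _
  have hmemC : ∀ x, x ∈ RepEigen.eig ρ (fC hn) (chi (0 : Module.Dual F (AltM F (k + 1 + 1)))) ↔ ∀ A, ρ (fC hn A) x = x :=
    fun x => by rw [RepEigen.mem_eig]; simp [chi_zero]
  have hAC : ∀ χ x, x ∈ RepEigen.eig ρ (fA) χ → P0 x ∈ RepEigen.eig ρ fA χ := fun χ x hx =>
    RepEigen.proj_mem ρ _ (fun A y hy => (RepEigen.mem_eig ρ).mpr fun β => by
      rw [← Module.End.mul_apply, ← map_mul, ← fC_comm_A hn A β, map_mul, Module.End.mul_apply,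
        (RepEigen.mem_eig ρ).mp hy β, map_smul]) _ hx
  -- the product operators
  set P := fun χ => RepEigen.proj ρ (fX hn) (chiPull neg χ) * (P0 * RepEigen.proj ρ fA χ)
  have himg : ∀ χ x, (∀ A, ρ (fC hn A) (P χ x) = P χ x) ∧ (∀ β, ρ (fX hn β) (P χ x) = χ (-β) • P χ x) ∧
      ∀ β, ρ (fA β) (P χ x) = χ β • P χ x := by
    intro χ x
    set z := P0 (RepEigen.proj ρ fA χ x) with hz
    have hzC := (hmemC z).mp (hP0e _)
    have hzA := (RepEigen.mem_eig ρ).mp (hAC χ _ (RepEigen.proj_mem_eig ρ (fA_add hn) χ x))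
    refine ⟨(hmemC _).mp (RepEigen.proj_mem ρ _ (fun β y hy => (hmemC _).mpr fun A => by
      rw [← Module.End.mul_apply, ← map_mul, fC_comm_X, map_mul, Module.End.mul_apply, (hmemC y).mp hy A]) _
      ((hmemC z).mpr hzC)), fun β => (RepEigen.mem_eig ρ).mp (RepEigen.proj_mem_eig ρ (fX_add hn) _ z) β, fun β => ?_⟩
    have hsw : ∀ a, ρ (fA β) (ρ (fX hn a) z) = ρ (fX hn a) (ρ (fA β) z) := by
      intro a
      have e : fA β * fX hn a = fX hn a * fC hn (wd (Fin.cons 0 β) (Fin.cons 0 a)) * fA β := by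
        have h := lvM_conj_x (sqForm F) hn (tA β) (wd (Pi.single 0 1) (Fin.cons 0 a))
        rw [mul_inv_eq_iff_eq_mul] at h
        refine h.trans (congrArg (· * fA β) ?_)
        rw [cg_wd, tA, mulVec_tv, mulVec_tv, single_dotProduct, single_dotProduct, Pi.single_eq_same, Fin.cons_zero,
          one_mul, one_mul, one_smul, zero_smul, add_zero, wd_add_left, xM_add, fC, cg_wd, prM_mulVec, prM_mulVec,
          Fin.tail_cons, Fin.tail_cons]
        rfl
      rw [← Module.End.mul_apply, ← map_mul, e, map_mul, map_mul, Module.End.mul_apply, Module.End.mul_apply,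
        show ρ (fA β) z = χ β • z from hzA β, map_smul, map_smul, hzC, map_smul]
    rw [show P χ x = RepEigen.proj ρ (fX hn) (chiPull neg χ) z from rfl]
    simp only [RepEigen.proj, LinearMap.smul_apply, LinearMap.sum_apply, map_smul, map_sum]
    conv_lhs => arg 2; arg 2; intro a; rw [hsw, show ρ (fA β) z = χ β • z from hzA β, map_smul, smul_comm]
    rw [← Finset.smul_sum, smul_comm]
  have hterm : ∀ χ, LinearMap.trace ℂ M (ρ s * (P0 * RepEigen.proj ρ fA χ)) = LinearMap.trace ℂ M (ρ s * P χ) := by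
    intro χ
    have hc := proj_comm₂ ρ (g := s) (f := fX hn) (f2 := fA) neg (fun β => sInv_fX h2 hn hk β) χ
    calc LinearMap.trace ℂ M (ρ s * (P0 * RepEigen.proj ρ fA χ))
        = LinearMap.trace ℂ M ((ρ s * (P0 * RepEigen.proj ρ fA χ)) * RepEigen.proj ρ fA χ) := by
          simp only [mul_assoc, proj_mul_proj ρ (f := fA) (fA_add (F := F) hn)]
      _ = LinearMap.trace ℂ M (RepEigen.proj ρ fA χ * (ρ s * (P0 * RepEigen.proj ρ fA χ))) :=
          LinearMap.trace_mul_comm _ _ _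
      _ = LinearMap.trace ℂ M (ρ s * P χ) := by
          rw [← mul_assoc, ← hc]; simp only [P, mul_assoc]
  have hzero : ∀ χ, χ ≠ 1 → P χ = 0 := by
    intro χ hχ
    obtain ⟨b, rfl⟩ := psiv_surjective χ
    have hb : b ≠ 0 := fun e => hχ (by rw [e, psiv_zero])
    refine LinearMap.ext fun x => ?_
    obtain ⟨h1, h2', h3'⟩ := himg (psiv b) x
    exact mix_zero_lemma hn hk1 hodd h3 ρ hirr hd2 hd hns hb h1
      (fun β => by rw [h2', psiv_apply, neg_dotProduct]) (fun β => by rw [h3', psiv_apply])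
  -- the fixed part
  set W := Eg hn (rhoP (sqForm F) ρ) 0
  have hPW : ∀ x, P 1 x ∈ W := by
    intro x
    obtain ⟨h1, h2', -⟩ := himg 1 x
    rw [mem_EgM]
    intro A
    obtain ⟨β, hβ⟩ := exists_split A
    conv_lhs => rw [hβ]
    rw [LinearMap.zero_apply, AddChar.map_zero_eq_one, one_smul, xM_add, map_mul, Module.End.mul_apply]
    show ρ (fC hn A) (ρ (fX hn β) _) = _
    rw [h2', AddChar.one_apply, one_smul, h1]
  have hftw : ff hn (rhoP (sqForm F) (twM (sqForm F) ρ)) = ff hn (rhoP (sqForm F) ρ) := by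
    obtain ⟨hf', -⟩ := odd_ff hk1 hodd h3 hn (twM (sqForm F) ρ) (twM_irr (sqForm F) ρ hirr) hd2 hd
    omega
  have hsmall : ff hn (rhoP (sqForm F) ρ) + 1 < Fintype.card F ^ (k + 1 + 1) := by
    rw [hf]
    have hS := S_mul (Fintype.card F) (k + 1 + 1) (by omega)
    have := Nat.mul_le_mul_left (S (Fintype.card F) (k + 1 + 1)) (show 2 ≤ Fintype.card F - 1 by omega)
    omega
  have hsz : ρ s * P 1 = ρ (lvM (sqForm F) hn (zSL hk)) * P 1 := by
    refine LinearMap.ext fun x => ?_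
    rw [Module.End.mul_apply, Module.End.mul_apply]
    set y := P 1 x
    have hyW := hPW x
    obtain ⟨-, -, hyA⟩ := himg 1 x
    have hyA' : ∀ β, ρ (fA β) y = y := fun β => by simpa using hyA β
    have hyW' : y ∈ Eg hn (rhoP (sqForm F) (twM (sqForm F) ρ)) 0 := by
      rw [rhoP_twM]
      refine mem_twist_zero hn (rhoP (sqForm F) ρ) (fun i j c _ _ => ?_) fun j hj c => ?_
      · exact (mem_Eg_zero hn _).mp hyW _
      · obtain ⟨i, rfl⟩ := Fin.exists_succ_eq.mpr hj
        have := hyA' (Pi.single i c)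
        rw [show fA (Pi.single i c) = lvM (sqForm F) hn (tA (Pi.single i c)) from rfl, tA_single] at this
        exact this
    have hu : ρ (uB (k := k) h2 hn) y = y := uM_trivial (sqForm F) hn ρ h0 hsmall _ _ hyW
    have hu' : ρ (sigM (sqForm F) (uB (k := k) h2 hn)) y = y :=
      uM_trivial (sqForm F) hn (twM (sqForm F) ρ) h0 (by rw [hftw]; exact hsmall) _ _ hyW'
    show ρ (sInv h2 hn hk) y = _
    rw [sInv_eq, sB, map_mul, map_mul, map_mul, Module.End.mul_apply, Module.End.mul_apply, Module.End.mul_apply,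
      hu, hu', hu]
    rfl
  have hT : trP ρ (fC hn) s (chi (0 : Module.Dual F (AltM F (k + 1 + 1)))) =
      LinearMap.trace ℂ M (ρ (lvM (sqForm F) hn (zSL hk)) * P 1) := by
    rw [trP, show RepEigen.proj ρ (fC hn) (chi (0 : Module.Dual F (AltM F (k + 1 + 1)))) =
        ∑ χ : AddChar (Fin (k + 1) → F) ℂ, P0 * RepEigen.proj ρ fA χ by
      rw [← Finset.mul_sum]
      refine LinearMap.ext fun x => ?_
      rw [Module.End.mul_apply, LinearMap.sum_apply, RepEigen.sum_proj_apply ρ (hom_zero (f := fA) (fA_add (F := F) hn))],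
      Finset.mul_sum, map_sum, Finset.sum_congr rfl (fun χ _ => hterm χ),
      Finset.sum_eq_single 1 (fun χ _ hne => by rw [hzero χ hne, mul_zero, map_zero])
        (fun h => absurd (Finset.mem_univ _) h), hsz]
  -- the fixed space as a representation of the linear group
  let H := Matrix.SpecialLinearGroup (Fin (k + 1 + 1)) F
  let σM : H →* Module.End ℂ M := ρ.comp (lvM (sqForm F) hn)
  have hWinv : ∀ g : H, ∀ x ∈ W, σM g x ∈ W := fun g x hx => lvM_map_zero (sqForm F) hn ρ g hx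
  let σ := subRep σM W hWinv
  have hXA : ∀ x, x ∈ W → (∀ β, ρ (fA β) x = x) → P 1 x = x := by
    intro x hx hxA
    have e1 : RepEigen.proj ρ fA 1 x = x := by
      rw [RepEigen.proj_apply_eig ρ (fA_add hn) ((RepEigen.mem_eig ρ).mpr fun β => by rw [hxA, AddChar.one_apply, one_smul]),
        if_pos rfl]
    have hxC : ∀ A, ρ (fC hn A) x = x := fun A => (mem_Eg_zero hn (rhoP (sqForm F) ρ)).mp hx _
    have e2 : P0 x = x := by
      show RepEigen.proj ρ (fC hn) _ x = x
      rw [RepEigen.proj_apply_eig ρ (fC_add hn) ((hmemC x).mpr hxC), if_pos rfl]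
    have e3 : chiPull neg (1 : AddChar (Fin (k + 1) → F) ℂ) = 1 := by ext; rfl
    show RepEigen.proj ρ (fX hn) (chiPull neg 1) (P0 (RepEigen.proj ρ fA 1 x)) = x
    rw [e1, e2, e3, RepEigen.proj_apply_eig ρ (fX_add hn) ((RepEigen.mem_eig ρ).mpr fun β => by
      rw [AddChar.one_apply, one_smul]; exact (mem_Eg_zero hn (rhoP (sqForm F) ρ)).mp hx _), if_pos rfl]
  set fs : (Fin (k + 1) → F) → H := fun β => tA β
  have hfs : ∀ a b, fs (a + b) = fs a * fs b := tA_add
  set Pσ := RepEigen.proj σ fs (1 : AddChar (Fin (k + 1) → F) ℂ)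
  have hPσ : ∀ x : W, (Pσ x : M) = P 1 (x : M) := by
    intro x
    have hm : ∀ β, ρ (fA β) ((Pσ x : W) : M) = ((Pσ x : W) : M) := fun β => by
      have h := (RepEigen.mem_eig σ).mp (RepEigen.proj_mem_eig σ hfs 1 x) β
      rw [AddChar.one_apply, one_smul] at h
      exact congrArg Subtype.val h
    have hp : ((Pσ x : W) : M) = RepEigen.proj ρ fA 1 (x : M) := by
      simp [Pσ, RepEigen.proj, LinearMap.smul_apply, LinearMap.sum_apply, σ, σM, fs, fA]
    rw [hp] at hm ⊢
    rw [← hXA _ (hp ▸ (Pσ x).2) hm]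
    show RepEigen.proj ρ (fX hn) _ (P0 (RepEigen.proj ρ fA 1 (RepEigen.proj ρ fA 1 (x : M)))) = _
    rw [← Module.End.mul_apply (RepEigen.proj ρ fA 1), proj_mul_proj ρ (f := fA) (fA_add (F := F) hn)]
    rfl
  set z := zSL (F := F) hk
  have htr : LinearMap.trace ℂ M (ρ (lvM (sqForm F) hn z) * P 1) = LinearMap.trace ℂ W (σ z * Pσ) := by
    rw [← LinearMap.trace_restrict_eq_of_forall_mem W (ρ (lvM (sqForm F) hn z) * P 1) (fun x => lvM_map_zero (sqForm F) hn ρ z (x := P 1 x) (hPW x))]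
    congr 1
    refine LinearMap.ext fun x => Subtype.ext ?_
    show ρ (lvM (sqForm F) hn z) (P 1 (x : M)) = ρ (lvM (sqForm F) hn z) ((Pσ x : W) : M)
    rw [hPσ]
  have hσz : LinearMap.trace ℂ W (σ z) = LinearMap.trace ℂ W (σ z * Pσ) := by
    rw [trace_eq_sum_trP σ hfs]
    exact Finset.sum_eq_single 1 (fun χ _ hne => trP_eq_zero σ hfs neg (zSL_tA hk)
      (fun h => hne (chi_neg_fix h2 h))) (fun h => absurd (Finset.mem_univ _) h)
  -- the dimension of the vectors fixed by the column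
  set X := RepEigen.eig σ fs (1 : AddChar (Fin (k + 1) → F) ℂ)
  have hD := odd_defect hk1 hodd h3 hn ρ hirr hd2 hd (one_ne_zero (α := F))
  have hprojW : LinearMap.IsProj W (RepEigen.proj ρ (xM (sqForm F) hn) (chi 0)) :=
    ⟨RepEigen.proj_mem_eig ρ (xM_add (sqForm F) hn) _, fun x hx => by
      rw [RepEigen.proj_apply_eig ρ (xM_add (sqForm F) hn) (show x ∈ RepEigen.eig ρ (xM (sqForm F) hn) (chi 0) from hx),
        if_pos rfl]⟩
  have hτ : ∀ β, β ≠ 0 → LinearMap.trace ℂ W (σ (fs β)) =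
      (ff hn (rhoP (sqForm F) ρ) : ℂ) - (Fintype.card F : ℂ) ^ (k + 1) := by
    intro β hβ
    have hne0 : (Pi.single 0 1 : Fin (k + 1 + 1) → F) ≠ 0 := by simp
    have hcb : (Fin.cons 0 β : Fin (k + 1 + 1) → F) ≠ 0 := fun e => hβ (funext fun i => by
      simpa using congrFun e i.succ)
    have hcb1 : (Fin.cons 0 (Pi.single 0 1) : Fin (k + 1 + 1) → F) ≠ 0 := fun e => by
      simpa using congrFun e (Fin.succ 0)
    have hcj : IsConj (fs β) (fs (Pi.single 0 1)) :=
      ((isConj_tv (by omega) _ hcb hne0).symm).trans (isConj_tv (by omega) _ hcb1 hne0)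
    rw [trace_eq_of_isConj σ hcj,
      show fs (Pi.single 0 1) = lineT (1 : F) by simp only [fs]; rw [tA_single, lineT]; rfl,
      trace_subRep σM hWinv hprojW]
    rw [trP] at hD
    show LinearMap.trace ℂ M (ρ (lvM (sqForm F) hn (lineT 1)) * _) = _
    linear_combination -hD
  have hX := finrank_eig_one_of_trace σ hfs hτ
  rw [show Module.finrank ℂ W = ff hn (rhoP (sqForm F) ρ) from rfl, Fintype.card_fun, Fintype.card_fin, Nat.cast_pow] at hX
  have hq : (Fintype.card F : ℂ) ^ (k + 1) ≠ 0 := pow_ne_zero _ (Nat.cast_ne_zero.mpr Fintype.card_ne_zero)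
  have hXd : (Module.finrank ℂ X : ℂ) + (Fintype.card F : ℂ) ^ (k + 1) = (ff hn (rhoP (sqForm F) ρ) : ℂ) + 1 :=
    mul_left_cancel₀ hq (by linear_combination hX)
  rw [← Nat.cast_pow, ← Nat.cast_add, ← Nat.cast_add_one, Nat.cast_inj, hf, S_succ] at hXd
  have hXS : Module.finrank ℂ X = S (Fintype.card F) (k + 1) := by omega
  -- the plus part
  have hz2 : σ z * σ z = 1 := by rw [← map_mul, zSL_sq, map_one]
  have hzX : ∀ x ∈ X, σ z x ∈ X := fun x hx =>
    map_mem_eig σ (fun β => -β) neg_surjective (zSL_tA hk) (fun _ => rfl) hx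
  have hproj1 : LinearMap.IsProj X Pσ :=
    ⟨RepEigen.proj_mem_eig σ hfs 1, fun x hx => by
      show RepEigen.proj σ fs 1 x = x
      rw [RepEigen.proj_apply_eig σ hfs hx, if_pos rfl]⟩
  have hQ : LinearMap.IsProj (X ⊓ LinearMap.ker (σ z - 1)) ((2 : ℂ)⁻¹ • (Pσ + σ z * Pσ)) := by
    refine ⟨fun x => ⟨X.smul_mem _ (X.add_mem (hproj1.map_mem x) (hzX _ (hproj1.map_mem x))), ?_⟩, fun x hx => ?_⟩
    · rw [SetLike.mem_coe, LinearMap.mem_ker, LinearMap.sub_apply, Module.End.one_apply, LinearMap.smul_apply,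
        LinearMap.add_apply, Module.End.mul_apply, map_smul, map_add, ← Module.End.mul_apply (σ z) (σ z), hz2,
        Module.End.one_apply, add_comm, sub_self]
    · have h := hx.2
      rw [SetLike.mem_coe, LinearMap.mem_ker, LinearMap.sub_apply, Module.End.one_apply, sub_eq_zero] at h
      rw [LinearMap.smul_apply, LinearMap.add_apply, Module.End.mul_apply, hproj1.map_id x hx.1, h, ← two_smul ℂ x,
        smul_smul]
      norm_num
  set p := Module.finrank ℂ ↥(X ⊓ LinearMap.ker (σ z - 1))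
  have hp : (p : ℂ) = 2⁻¹ * ((Module.finrank ℂ X : ℂ) + LinearMap.trace ℂ W (σ z * Pσ)) := by
    rw [← hQ.trace, map_smul, map_add, hproj1.trace, smul_eq_mul]
  have hple : p ≤ Module.finrank ℂ X := Submodule.finrank_mono inf_le_left
  set T0 : ℤ := 2 * (p : ℤ) - (S (Fintype.card F) (k + 1) : ℤ)
  have hT0 : LinearMap.trace ℂ W (σ z * Pσ) = (T0 : ℂ) := by
    simp only [T0]
    push_cast
    rw [← hXS, hp]
    ring
  -- divisibility
  have h4 : Fintype.card F ≠ 4 := fun e => absurd hodd (by rw [e]; decide)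
  obtain ⟨x, hx, hgx⟩ : ∃ x ∈ W, ρ (lvM (sqForm F) hn (lineT (1 : F))) x ≠ x := by
    by_contra hcon
    push Not at hcon
    rw [trP_zero_of_fixed (sqForm F) hn ρ hcon, sub_self] at hD
    exact hq hD.symm
  have hσirr : IsIrr σ := by
    intro U hU
    have h := zero_irr (sqForm F) hn ρ (by omega) hf hx hgx (U := U.map W.subtype) (Submodule.map_subtype_le W U)
      (by rintro g _ ⟨y, hy, rfl⟩; exact ⟨σ g y, hU g y hy, rfl⟩)
    rcases h with h | h
    · refine Or.inl ((Submodule.eq_bot_iff U).mpr fun y hy => Subtype.ext ?_)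
      exact (Submodule.mem_bot ℂ).mp (h ▸ Submodule.mem_map_of_mem (f := W.subtype) hy)
    · refine Or.inr (Submodule.eq_top_of_finrank_eq ?_)
      rw [(Submodule.equivMapOfInjective W.subtype W.injective_subtype U).finrank_eq, h]
  have hf2 : 2 ≤ Module.finrank ℂ W := by
    show 2 ≤ ff hn (rhoP (sqForm F) ρ)
    have : 5 ≤ Fintype.card F ^ (k + 1) := by
      have := Nat.le_self_pow (show k + 1 ≠ 0 by omega) (Fintype.card F)
      omega
    rw [S_succ] at hf
    omega
  have hdvd := class_dvd σ hσirr hf2 z (T := T0) (hσz.trans hT0)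
  have hK : (Fintype.card F - 1) * Nat.card {x : H // IsConj z x} =
      (Fintype.card F ^ (k + 1 + 1) - 1) * Fintype.card F ^ (k + 1) := card_class_zD hk h2
  set K := Nat.card {x : H // IsConj z x}
  have hSk := S_mul (Fintype.card F) (k + 1) (by omega)
  have hfS : ff hn (rhoP (sqForm F) ρ) = Fintype.card F * S (Fintype.card F) (k + 1) := by
    have hSk2 := S_mul (Fintype.card F) (k + 1 + 1) (by omega)
    have hq1 : 1 ≤ Fintype.card F := by omega
    zify [hq1] at hSk hSk2 hf ⊢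
    refine mul_right_cancel₀ (show ((Fintype.card F : ℤ) - 1) ≠ 0 by omega) ?_
    rw [pow_succ] at hSk2
    linear_combination ((Fintype.card F : ℤ) - 1) * hf + hSk2 - (Fintype.card F : ℤ) * hSk
  have hKS : (K : ℤ) = (Fintype.card F : ℤ) ^ (k + 1) * ((Fintype.card F : ℤ) * S (Fintype.card F) (k + 1) + 1) := by
    have hq1 : 1 ≤ Fintype.card F := by omega
    have hp1 : 1 ≤ Fintype.card F ^ (k + 1 + 1) := Nat.one_le_pow _ _ Fintype.card_pos
    zify [hq1, hp1] at hK hSk
    refine mul_left_cancel₀ (show ((Fintype.card F : ℤ) - 1) ≠ 0 by omega) ?_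
    rw [pow_succ (Fintype.card F : ℤ) (k + 1)] at hK
    linear_combination hK - (Fintype.card F : ℤ) ^ (k + 1) * (Fintype.card F : ℤ) * hSk
  set s' : ℤ := (S (Fintype.card F) (k + 1) : ℤ)
  have hs'dvd : s' ∣ T0 := by
    have h1 : s' ∣ (K : ℤ) * T0 := by
      refine (dvd_trans ?_ hdvd)
      rw [show Module.finrank ℂ W = ff hn (rhoP (sqForm F) ρ) from rfl, hfS]
      push_cast
      exact dvd_mul_left _ _
    have hco : IsCoprime s' ((K : ℤ)) := by
      rw [hKS]
      refine IsCoprime.mul_right ⟨-((Fintype.card F : ℤ) - 1), 1, ?_⟩ ⟨-(Fintype.card F : ℤ), 1, by ring⟩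
      have hq1 : 1 ≤ Fintype.card F := by omega
      zify [hq1] at hSk
      linear_combination -hSk
    exact hco.dvd_of_dvd_mul_left h1
  obtain ⟨e, he⟩ := hs'dvd
  have hs1 : 1 ≤ s' := by
    have : 1 ≤ S (Fintype.card F) (k + 1) := by
      rw [S_succ]; have := Nat.one_le_pow k (Fintype.card F) Fintype.card_pos; omega
    simp only [s']; omega
  refine ⟨e, ?_, by rw [hT, htr, hT0, he]; push_cast; ring⟩
  have hb1 : T0 ≤ s' := by simp only [T0, s']; omega
  have hb2 : -s' ≤ T0 := by simp only [T0, s']; omega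
  have : e ≤ 1 := by nlinarith
  have : -1 ≤ e := by nlinarith
  omega

end Cfsg.Lib.OrthMinDeg
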