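import Mathlib

/-! Arithmetic excluding small representations when minus one is a non-square. -/

set_option autoImplicit false

namespace Cfsg.Lib.OrthMinDeg

theorem small_mul {a b c : ℤ} (h : a * b = c) (ha : |c| < a) : b = 0 := by
  by_contra hb
  have h1 : a * 1 ≤ |a| * |b| := mul_le_mul (le_abs_self a) (Int.one_le_abs hb) zero_le_one (abs_nonneg a)
  rw [← abs_mul, h, mul_one] at h1
  omega

theorem arith_one {q d e G : ℤ} (hq : 5 ≤ q) (hd : d * (q ^ 2 - 1) = q ^ 2 * ((q ^ 2) ^ 2 - 1))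
    (he : e = -1 ∨ e = 0 ∨ e = 1) (hG : G ≠ 0) (hG1 : G ≤ q - 1) (hG2 : -(q - 1) ≤ G)
    (h : d ∣ q * q ^ 2 * (q * q ^ 2 - 1) * (e * (q + 1) + q ^ 2 * G)) : False := by
  have hq2 : q ^ 2 - 1 ≠ 0 := by nlinarith
  have hd' : d = q ^ 2 * (q ^ 2 + 1) := mul_right_cancel₀ hq2 (by linear_combination hd)
  have h1 : q ^ 2 + 1 ∣ (q * q ^ 2) * ((q * q ^ 2 - 1) * (e * (q + 1) + q ^ 2 * G)) := by
    rw [← mul_assoc]
    exact (dvd_mul_left _ _).trans (hd' ▸ h)
  have h2 : q ^ 2 + 1 ∣ (q * q ^ 2 - 1) * (e * (q + 1) + q ^ 2 * G) :=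
    (IsCoprime.mul_right (⟨1, -q, by ring⟩ : IsCoprime (q ^ 2 + 1) q) ⟨1, -1, by ring⟩).dvd_of_dvd_mul_left h1
  obtain ⟨c, hc⟩ := h2
  set t := c - (q * (e * (q + 1) + q ^ 2 * G) - (q + 1) * G - e) with ht
  have hV : (q + 1) * G - 2 * q * e = (q ^ 2 + 1) * t := by rw [ht]; linear_combination hc
  have hb : |(q + 1) * G - 2 * q * e| ≤ q ^ 2 + 2 * q - 1 := by
    rw [abs_le]
    rcases he with rfl | rfl | rfl <;> constructor <;> nlinarith
  have ht1 : t ≤ 1 := by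
    by_contra h'
    have := mul_le_mul_of_nonneg_left (show (2 : ℤ) ≤ t by omega) (show (0 : ℤ) ≤ q ^ 2 + 1 by positivity)
    have := (le_abs_self _).trans hb
    nlinarith
  have ht2 : -1 ≤ t := by
    by_contra h'
    have := mul_le_mul_of_nonneg_left (show t ≤ (-2 : ℤ) by omega) (show (0 : ℤ) ≤ q ^ 2 + 1 by positivity)
    have := (neg_le_abs _).trans hb
    nlinarith
  obtain ht0 | ht0 | ht0 : t = -1 ∨ t = 0 ∨ t = 1 := by omega
  all_goals rw [ht0] at hV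
  · have heq : (q + 1) * (G + (q - 1) - 2 * e) = -2 - 2 * e := by linear_combination hV
    have h0 := small_mul heq (by rcases he with rfl | rfl | rfl <;> norm_num <;> omega)
    rw [h0, mul_zero] at heq
    omega
  · have heq : (q + 1) * (G - 2 * e) = -2 * e := by linear_combination hV
    have h0 := small_mul heq (by rcases he with rfl | rfl | rfl <;> norm_num <;> omega)
    rw [h0, mul_zero] at heq
    omega
  · have heq : (q + 1) * (G - (q - 1) - 2 * e) = 2 - 2 * e := by linear_combination hV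
    have h0 := small_mul heq (by rcases he with rfl | rfl | rfl <;> norm_num <;> omega)
    rw [h0, mul_zero] at heq
    omega

theorem arith_big {q d e σ D s : ℤ} {k : ℕ} (hk : 3 ≤ k) (hq : 5 ≤ q)
    (hd : d * (q ^ 2 - 1) = q ^ 2 * ((q ^ (k + 1)) ^ 2 - 1)) (hs : s * (q - 1) = q ^ (k + 1) - 1)
    (hD : q * D * (q ^ 2 - 1) = (q ^ (k + 1) - 1) * (q ^ (k + 1) - q))
    (he : e = -1 ∨ e = 0 ∨ e = 1) (hσ : σ = 1 ∨ σ = -1)
    (h : d ∣ q * q ^ (k + 1) * (q * q ^ (k + 1) - 1) * (e * s + q ^ 2 * (σ * D))) : False := by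
  have hy : q ^ 4 ≤ q ^ (k + 1) := pow_le_pow_right₀ (by omega) (by omega)
  have hqy : q ∣ q ^ (k + 1) := dvd_pow_self q (by omega)
  set y := q ^ (k + 1) with hydef
  have h1 : q ^ 2 * (y + 1) ∣ q * y * ((q * y - 1) * (e * (q + 1) + σ * q * (y - q))) := by
    refine (mul_dvd_mul_iff_left (show y - 1 ≠ 0 by nlinarith [pow_le_pow_left₀ (show (0 : ℤ) ≤ 5 by norm_num) hq 4])).mp ?_
    rw [show (y - 1) * (q ^ 2 * (y + 1)) = d * (q ^ 2 - 1) by rw [hd]; ring,
      show (y - 1) * (q * y * ((q * y - 1) * (e * (q + 1) + σ * q * (y - q)))) =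
        q * y * (q * y - 1) * (e * s + q ^ 2 * (σ * D)) * (q ^ 2 - 1) by
          linear_combination (-(q * y * (q * y - 1)) * e * (q + 1)) * hs - (q * y * (q * y - 1) * σ * q) * hD]
    exact mul_dvd_mul_right h _
  have hco : IsCoprime (y + 1) (q * y) := by
    obtain ⟨z, hz⟩ := hqy
    exact IsCoprime.mul_right ⟨1, -z, by rw [hz]; ring⟩ ⟨1, -1, by ring⟩
  have h2 : y + 1 ∣ (q * y - 1) * (e * (q + 1) + σ * q * (y - q)) :=
    hco.dvd_of_dvd_mul_left ((dvd_mul_left _ _).trans h1)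
  obtain ⟨c, hc⟩ := h2
  have h3 : y + 1 ∣ (q + 1) ^ 2 * (e - σ * q) :=
    ⟨q * (e * (q + 1) + σ * q * (y - q)) - (q + 1) * (σ * q) - c, by linear_combination -hc⟩
  have hne : (q + 1) ^ 2 * (e - σ * q) ≠ 0 := mul_ne_zero (by positivity) (by
    rcases he with rfl | rfl | rfl <;> rcases hσ with rfl | rfl <;> omega)
  have hb := Int.le_of_dvd (abs_pos.mpr hne) ((dvd_abs _ _).mpr h3)
  have : |(q + 1) ^ 2 * (e - σ * q)| ≤ (q + 1) ^ 2 * (q + 1) := by
    rw [abs_mul, abs_of_nonneg (show (0 : ℤ) ≤ (q + 1) ^ 2 by positivity)]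
    refine mul_le_mul_of_nonneg_left ?_ (by positivity)
    rw [abs_le]
    rcases he with rfl | rfl | rfl <;> rcases hσ with rfl | rfl <;> omega
  nlinarith [mul_le_mul_of_nonneg_left hq (show (0 : ℤ) ≤ q ^ 3 by positivity)]

end Cfsg.Lib.OrthMinDeg
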