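import Cfsg.Agent.Known.OrthMinDegree.Mixed.Lower
import Cfsg.Agent.Chars.Count

/-! Small representations of the odd-dimensional `Ω`. -/

set_option autoImplicit false
set_option linter.unusedSectionVars false
set_option linter.style.haveILetI false

open Matrix Cfsg.Lib.Classical Cfsg.Lib.Classical.Refl Cfsg.Lib.Classical.HypQuad Cfsg.Lib.SLMinDeg

namespace Cfsg.Lib.OrthMinDeg

universe u v

variable {F : Type u} [Field F] [Fintype F]

/-- The square of the extra coordinate. -/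
def sqForm (F : Type u) [Field F] : QuadraticForm F (Unit → F) :=
  (QuadraticMap.sq (R := F)).comp (LinearMap.proj ())

theorem sqForm_apply (w : Unit → F) : sqForm F w = w () * w () := rfl

theorem polar_sqForm (w w' : Unit → F) : QuadraticMap.polar (⇑(sqForm F)) w w' = 2 * (w () * w' ()) := by
  simp only [QuadraticMap.polar, sqForm_apply, Pi.add_apply]; ring

theorem sqForm_nondeg (h2 : (2 : F) ≠ 0) : (QuadraticMap.polarBilin (sqForm F)).Nondegenerate := by
  have key : ∀ x : Unit → F, (∀ y, QuadraticMap.polar (⇑(sqForm F)) x y = 0) → x = 0 := fun x hx => by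
    have := hx 1
    rw [polar_sqForm, Pi.one_apply, mul_one] at this
    funext i
    exact (mul_eq_zero.mp this).resolve_left h2
  exact ⟨key, fun y hy => key y fun x => by rw [QuadraticMap.polar_comm]; exact hy x⟩

theorem two_ne (hodd : Odd (Fintype.card F)) : (2 : F) ≠ 0 :=
  Ring.two_ne_zero fun h => Nat.not_even_iff_odd.mpr hodd
    (Nat.even_iff.mpr ((FiniteField.even_card_iff_char_two (F := F)).mp h))

theorem RR_unit : RR F Unit = Fintype.card F := by simp [RR]

theorem sum_char_sq [DecidableEq F] {c : F} (hc : c ≠ 0) :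
    ∑ a ∈ Finset.univ.erase (0 : F), ∑ t : Unit → F, psi0 (a * c * sqForm F t) = 0 := by
  classical
  rw [Finset.sum_comm]
  have hs : ∀ t : Unit → F, ∑ a ∈ Finset.univ.erase (0 : F), psi0 (a * c * sqForm F t) =
      (if t = 0 then (Fintype.card F : ℂ) else 0) - 1 := by
    intro t
    rw [Finset.sum_erase_eq_sub (Finset.mem_univ _), zero_mul, zero_mul, AddChar.map_zero_eq_one]
    congr 1
    simp only [mul_assoc]
    rw [AddChar.sum_mulShift _ (psi0_primitive (F := F))]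
    simp only [sqForm_apply, mul_eq_zero, hc, false_or, or_self]
    split_ifs with h1 h2 h2 <;> simp_all [funext_iff]
  rw [Finset.sum_congr rfl fun t _ => hs t, Finset.sum_sub_distrib, Finset.sum_ite_eq', if_pos (Finset.mem_univ _)]
  simp

variable {k : ℕ} {M : Type v} [AddCommGroup M] [Module ℂ M] [FiniteDimensional ℂ M]

/-- The bound. -/
def BB (q k : ℕ) : ℕ := q * ((q ^ (k + 1 + 1) - 1) * (q ^ (k + 1) - 1) / (q ^ 2 - 1)) + S q (k + 1 + 1)

variable (hk : 1 ≤ k) (hodd : Odd (Fintype.card F)) (h3 : 3 < Fintype.card F) (hn : 3 ≤ k + 1 + 1)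

include hk hodd h3

theorem N_mul : Nat.card {L : Module.Dual F (AltM F (k + 1 + 1)) // Dec L} * (Fintype.card F ^ 2 - 1) =
    (Fintype.card F ^ (k + 1 + 1) - 1) * (Fintype.card F ^ (k + 1) - 1) := by
  have h := card_dec (F := F) (k := k) hk
  have e : Fintype.card F ^ (k + 1 + 1) - Fintype.card F = Fintype.card F * (Fintype.card F ^ (k + 1) - 1) := by
    rw [Nat.mul_sub_one, pow_succ']
  rw [e] at h
  refine Nat.eq_of_mul_eq_mul_left (show 0 < Fintype.card F by omega) ?_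
  linear_combination h

theorem BB_eq : BB (Fintype.card F) k =
    Fintype.card F * Nat.card {L : Module.Dual F (AltM F (k + 1 + 1)) // Dec L} + S (Fintype.card F) (k + 1 + 1) := by
  have hq : 0 < Fintype.card F ^ 2 - 1 := Nat.sub_pos_of_lt (Nat.one_lt_pow two_ne_zero (by omega))
  rw [BB, ← N_mul hk hodd h3, Nat.mul_div_cancel _ hq]

theorem sizes {d : ℕ} (hd : d < BB (Fintype.card F) k) :
    d < RR F Unit * RR F Unit * ((Fintype.card F ^ (k + 1) - 1) * Fintype.card F ^ k) ∧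
      d < 2 * (RR F Unit * Nat.card {L : Module.Dual F (AltM F (k + 1 + 1)) // Dec L}) := by
  have hS := S_mul (Fintype.card F) (k + 1 + 1) (by omega)
  have hN := N_mul (F := F) hk hodd h3
  rw [BB_eq hk hodd h3] at hd
  rw [RR_unit]
  set q := Fintype.card F
  set N := Nat.card {L : Module.Dual F (AltM F (k + 1 + 1)) // Dec L}
  set s := S q (k + 1 + 1)
  obtain ⟨y, hy⟩ : ∃ y, q ^ k = y := ⟨_, rfl⟩
  have hy1 : q ≤ y := hy ▸ Nat.le_self_pow (by omega) q
  have e1 : q ^ (k + 1) = y * q := by rw [pow_succ, hy]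
  have e2 : q ^ (k + 1 + 1) = y * q * q := by rw [pow_succ, e1]
  rw [e2] at hS hN
  rw [e1] at hN ⊢
  rw [hy]
  have hb1 : 1 ≤ y * q := Nat.mul_pos (by omega) (by omega)
  have hb2 : 1 ≤ y * q * q := Nat.mul_pos hb1 (by omega)
  have hq1 : 1 ≤ q := by omega
  have hq2 : 1 ≤ q ^ 2 := Nat.one_le_pow _ _ hq1
  zify [hb1, hb2, hq1, hq2] at hS hN hd ⊢
  have hq' : (5 : ℤ) ≤ q := by
    have : q ≠ 4 := fun e => absurd (show Odd q from hodd) (by rw [e]; decide)
    exact_mod_cast (by omega : 5 ≤ q)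
  have hy' : (q : ℤ) ≤ y := by exact_mod_cast hy1
  have hq2' : (0 : ℤ) < (q : ℤ) ^ 2 - 1 := by nlinarith
  have key : (s : ℤ) ≤ (q : ℤ) * N := by
    refine le_of_mul_le_mul_right ?_ hq2'
    rw [show (s : ℤ) * ((q : ℤ) ^ 2 - 1) = ((q : ℤ) + 1) * ((y : ℤ) * q * q - 1) by linear_combination ((q : ℤ) + 1) * hS,
      show (q : ℤ) * N * ((q : ℤ) ^ 2 - 1) = q * (((y : ℤ) * q * q - 1) * ((y : ℤ) * q - 1)) by linear_combination (q : ℤ) * hN]
    have h1 : (q : ℤ) + 1 ≤ q * ((y : ℤ) * q - 1) := by nlinarith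
    calc ((q : ℤ) + 1) * ((y : ℤ) * q * q - 1) ≤ q * ((y : ℤ) * q - 1) * ((y : ℤ) * q * q - 1) :=
          mul_le_mul_of_nonneg_right h1 (by nlinarith)
      _ = _ := by ring
  refine ⟨?_, by nlinarith⟩
  refine lt_of_lt_of_le hd ?_
  refine le_trans (show _ ≤ 2 * ((q : ℤ) * N) by linarith) ?_
  refine le_of_mul_le_mul_right ?_ hq2'
  rw [mul_assoc 2, mul_assoc (q : ℤ), hN]
  have h2 : 2 * ((y : ℤ) * q * q - 1) ≤ q * y * ((q : ℤ) ^ 2 - 1) := by
    nlinarith [mul_le_mul_of_nonneg_left (show (2 : ℤ) * q ≤ (q : ℤ) ^ 2 - 1 by nlinarith)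
      (show (0 : ℤ) ≤ (y : ℤ) * q by positivity)]
  calc 2 * ((q : ℤ) * (((y : ℤ) * q * q - 1) * ((y : ℤ) * q - 1)))
      = (2 * ((y : ℤ) * q * q - 1)) * ((q : ℤ) * ((y : ℤ) * q - 1)) := by ring
    _ ≤ ((q : ℤ) * y * ((q : ℤ) ^ 2 - 1)) * ((q : ℤ) * ((y : ℤ) * q - 1)) :=
        mul_le_mul_of_nonneg_right h2 (by nlinarith)
    _ = _ := by ring

variable (ρ : OmM (k + 1 + 1) (sqForm F) →* Module.End ℂ M) (hirr : IsIrr ρ) (hd2 : 2 ≤ Module.finrank ℂ M)
  (hd : Module.finrank ℂ M < BB (Fintype.card F) k)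

include hirr hd2 hd

/-- The shape of a small representation. -/
theorem odd_shape : Module.finrank ℂ M = ff hn (rhoP (sqForm F) ρ) +
      RR F Unit * Nat.card {L : Module.Dual F (AltM F (k + 1 + 1)) // Dec L} ∧
    (∀ L : Module.Dual F (AltM F (k + 1 + 1)), Dec L → Module.finrank ℂ (Eg hn (rhoP (sqForm F) ρ) L) = RR F Unit) ∧
    ∀ L : Module.Dual F (AltM F (k + 1 + 1)), L ≠ 0 → ¬ Dec L → Eg hn (rhoP (sqForm F) ρ) L = ⊥ :=
  shapeM (sqForm F) (sqForm_nondeg (two_ne hodd)) hn ρ hirr hd2 hk le_rfl (sizes hk hodd h3 hd).1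
    (sizes hk hodd h3 hd).2

theorem odd_triv {a : F} (ha : a ≠ 0) : Triv (sqForm F) (sqForm_nondeg (two_ne hodd)) hn ρ a :=
  triv_of_big (sqForm F) _ hn ρ (odd_shape hk hodd h3 hn ρ hirr hd2 hd).2.1 ha h3

omit hk hodd h3 hirr hd2 hd in
theorem perf_small (hq : 4 ≤ Fintype.card F) : ∀ k, commutator (Matrix.SpecialLinearGroup (Fin k) F) = ⊤ := by
  intro k
  refine Cfsg.Lib.Classical.eq_top_of_transvection_mem _ fun i j hij c => ?_
  obtain ⟨t, ht0, ht⟩ := exists_pow_ne_one (F := F) (k := 2) (fun h => by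
    have := Nat.le_of_dvd (by norm_num) h; omega)
  let d : Fin k → F := Function.update (Function.update 1 i t) j t⁻¹
  have hd : ∏ l, d l = 1 := by
    rw [Finset.prod_update_of_mem (Finset.mem_univ _), Finset.prod_update_of_mem (by simp [hij])]
    simp [ht0]
  have hne : d i * (d j)⁻¹ - 1 ≠ 0 := by
    simp only [d, Function.update_self, Function.update_of_ne hij, inv_inv]
    rw [sub_ne_zero, ← sq]; exact ht
  rw [← mul_div_cancel₀ c hne, ← transvection_comm_dia d hd hij]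
  exact Subgroup.commutator_mem_commutator (Subgroup.mem_top _) (Subgroup.mem_top _)

/-- The defect of a transvection is a power of the field order. -/
theorem odd_defect {c : F} (hc : c ≠ 0) : (ff hn (rhoP (sqForm F) ρ) : ℂ) -
    trP ρ (xM (sqForm F) hn) (lvM (sqForm F) hn (lineT c)) (chi 0) = (Fintype.card F : ℂ) ^ (k + 1) := by
  classical
  obtain ⟨hdim, hdec, hz⟩ := odd_shape hk hodd h3 hn ρ hirr hd2 hd
  rw [diff_lineT (sqForm F) (sqForm_nondeg (two_ne hodd)) hn ρ hk hdim hdec hz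
    (odd_triv hk hodd h3 hn ρ hirr hd2 hd one_ne_zero) (perf_small (by omega) k) le_rfl hc
    (val := fun a => ∑ t : Unit → F, psi0 (a * c * sqForm F t)) (fun a ha => by
      obtain ⟨l, hl⟩ := exists_lam (sqForm F) (sqForm_nondeg (two_ne hodd)) hn ρ hdec ha c
      rw [trP_lineT (sqForm F) _ hn ρ hdec ha hl, lam_eq_one (sqForm F) _ hn ρ hdec ha h3 hl, one_mul]),
    sum_char_sq hc, add_zero, RR_unit, pow_succ]

/-- The fixed space has the dimension of the smallest representation of the Levi factor. -/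
theorem odd_ff : ff hn (rhoP (sqForm F) ρ) + 1 = S (Fintype.card F) (k + 1 + 1) ∧
    Module.finrank ℂ M + 1 = BB (Fintype.card F) k := by
  classical
  obtain ⟨hdim, -, -⟩ := odd_shape hk hodd h3 hn ρ hirr hd2 hd
  have hD := odd_defect hk hodd h3 hn ρ hirr hd2 hd (one_ne_zero (α := F))
  obtain ⟨x, hx, hgx⟩ : ∃ x ∈ Eg hn (rhoP (sqForm F) ρ) 0, ρ (lvM (sqForm F) hn (lineT (1 : F))) x ≠ x := by
    by_contra hcon
    push Not at hcon
    rw [trP_zero_of_fixed (sqForm F) hn ρ hcon, sub_self] at hD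
    exact pow_ne_zero _ (Nat.cast_ne_zero.mpr Fintype.card_ne_zero) hD.symm
  have h4 : Fintype.card F ≠ 4 := fun e => absurd hodd (by rw [e]; decide)
  have hlow := ff_lower_of_moved (sqForm F) hn ρ (by omega) hx hgx
  have hS : 1 ≤ S (Fintype.card F) (k + 1 + 1) := by rw [S_succ]; have := Nat.one_le_pow (k + 1) (Fintype.card F) Fintype.card_pos; omega
  rw [BB_eq hk hodd h3] at hd ⊢
  rw [RR_unit] at hdim
  omega

end Cfsg.Lib.OrthMinDeg
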