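import Cfsg.Agent.Known.OrthMinDegree.Odd.Piece
import Cfsg.Agent.Known.OrthMinDegree.Odd.Arith

/-! The case where minus one is not a square and the rank is odd; the conclusion for the odd orthogonal groups. -/

set_option autoImplicit false
set_option linter.unusedSectionVars false
set_option linter.style.haveILetI false

open Matrix Cfsg.Lib.Classical Cfsg.Lib.Classical.Refl Cfsg.Lib.Classical.HypQuad Cfsg.Lib.SLMinDeg

namespace Cfsg.Lib.OrthMinDeg

universe u v

variable {F : Type u} [Field F] [Fintype F] {k : ℕ} {M : Type v} [AddCommGroup M] [Module ℂ M] [FiniteDimensional ℂ M]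

theorem inD2_iff (L : Module.Dual F (AltM F (k + 1 + 1))) :
    InD2 L ↔ Dec L ∧ ∀ j : Fin (k + 1 + 1), bf L (Pi.single 0 1) (Pi.single j 1) = 0 := by
  refine and_congr_right fun _ => ⟨fun h j => ?_, fun h => dual_ext fun i j _ => ?_⟩
  · rw [bf_cons h, show (Fin.cons 0 (Fin.tail (α := fun _ => F) (Pi.single (0 : Fin (k + 1 + 1)) (1 : F))) :
      Fin (k + 1 + 1) → F) = (0 : F) • 0 by funext l; cases l using Fin.cases <;> simp [Fin.tail, Fin.succ_ne_zero],
      map_smul, zero_smul, LinearMap.zero_apply]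
  · have e : ∀ l : Fin (k + 1 + 1), prM F k *ᵥ Pi.single l 1 = if l = 0 then 0 else Pi.single l 1 := fun l => by
      funext m
      rw [prM, mulVec_diagonal]
      cases l using Fin.cases <;> cases m using Fin.cases <;> simp [Fin.succ_ne_zero, (Fin.succ_ne_zero _).symm]
    rw [bf_comp, e, e]
    split_ifs with hi hj hj
    · subst hi hj; simp [bf_self]
    · subst hi; rw [h j]; simp
    · subst hj; rw [map_zero, bf_swap L (Pi.single 0 1) (Pi.single i 1), h i, neg_zero]
    · rfl

theorem card_D2 (hk : 1 ≤ k) : Nat.card {L : Module.Dual F (AltM F (k + 1 + 1)) // InD2 L} +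
    (Fintype.card F ^ (k + 1) - 1) * Fintype.card F ^ k =
      Nat.card {L : Module.Dual F (AltM F (k + 1 + 1)) // Dec L} := by
  classical
  rw [← card_moved (F := F) (k := k)]
  obtain ⟨g, hg⟩ := exists_mulVec_eq (v := (Pi.single 1 1 : Fin (k + 1 + 1) → F)) (by simp) 0 ⟨1, by simp⟩
  set g' := ((g⁻¹ : Matrix.SpecialLinearGroup (Fin (k + 1 + 1)) F) : Matrix (Fin (k + 1 + 1)) (Fin (k + 1 + 1)) F)
  have e1 : (g : Matrix (Fin (k + 1 + 1)) (Fin (k + 1 + 1)) F) * g' = 1 := by
    rw [← Matrix.SpecialLinearGroup.coe_mul, mul_inv_cancel, Matrix.SpecialLinearGroup.coe_one]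
  have e2 : g' * (g : Matrix (Fin (k + 1 + 1)) (Fin (k + 1 + 1)) F) = 1 := by
    rw [← Matrix.SpecialLinearGroup.coe_mul, inv_mul_cancel, Matrix.SpecialLinearGroup.coe_one]
  let E : Module.Dual F (AltM F (k + 1 + 1)) ≃ Module.Dual F (AltM F (k + 1 + 1)) :=
    { toFun := fun L => L.comp (cg (g : Matrix (Fin (k + 1 + 1)) (Fin (k + 1 + 1)) F))
      invFun := fun L => L.comp (cg g')
      left_inv := fun L => by simp only [comp_cg_mul, e1, comp_cg_one]
      right_inv := fun L => by simp only [comp_cg_mul, e2, comp_cg_one] }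
  have hcongr : Nat.card {L : Module.Dual F (AltM F (k + 1 + 1)) // Dec L ∧
      ¬ ∀ j : Fin (k + 1 + 1), bf L (Pi.single 1 1) (Pi.single j 1) = 0} =
      Nat.card {L : Module.Dual F (AltM F (k + 1 + 1)) // Dec L ∧ ¬ InD2 L} := by
    refine Nat.card_congr (E.subtypeEquiv fun L => ?_)
    have hv : ∀ v, bf (E L) (Pi.single 0 1) v = bf L (Pi.single 1 1)
        ((g : Matrix (Fin (k + 1 + 1)) (Fin (k + 1 + 1)) F) *ᵥ v) := fun v => by
      show bf (L.comp _) _ _ = _
      rw [bf_comp, hg]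
    have hd : Dec (E L) ↔ Dec L := ⟨fun h => by
      have := h.comp (g := g') (g' := (g : Matrix (Fin (k + 1 + 1)) (Fin (k + 1 + 1)) F)) e2
      rwa [show E L = L.comp (cg (g : Matrix (Fin (k + 1 + 1)) (Fin (k + 1 + 1)) F)) from rfl, comp_cg_mul, e1,
        comp_cg_one] at this, fun h => h.comp e1⟩
    rw [inD2_iff, hd]
    refine and_congr_right fun hL => not_congr ⟨fun h => ⟨hL, fun j => ?_⟩, fun h j => ?_⟩
    · rw [hv]
      have h' : bf L (Pi.single 1 1) = 0 := (Pi.basisFun F _).ext fun j => by simpa using h j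
      rw [h', LinearMap.zero_apply]
    · have h' : bf (E L) (Pi.single 0 1) = 0 := (Pi.basisFun F _).ext fun j => by simpa using h.2 j
      have := LinearMap.congr_fun h' (g' *ᵥ Pi.single j 1)
      rwa [hv, mulVec_mulVec, e1, one_mulVec, LinearMap.zero_apply] at this
  rw [hcongr, Nat.card_eq_fintype_card, Nat.card_eq_fintype_card, Nat.card_eq_fintype_card, Fintype.card_subtype,
    Fintype.card_subtype, Fintype.card_subtype, ← Finset.card_union_of_disjoint (Finset.disjoint_filter.mpr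
      fun L _ h h' => h'.2 h)]
  congr 1
  ext L
  simp only [Finset.mem_union, Finset.mem_filter, Finset.mem_univ, true_and]
  exact ⟨fun h => h.elim (fun h => h.1) (fun h => h.1), fun h => (em (InD2 L)).imp id (fun h' => ⟨h, h'⟩)⟩

/-- For rank at least three the decomposable functionals on the last vectors form one orbit. -/
theorem exists_D2_move (hk : 2 ≤ k) {L : Module.Dual F (AltM F (k + 1 + 1))} (hL : InD2 L) :
    ∃ g : Matrix.SpecialLinearGroup (Fin (k + 1)) F,
      L = (luv (Fin.cons 0 (Pi.single 0 1)) (Fin.cons 0 (Pi.single 1 1))).comp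
        (cg (emb g : Matrix (Fin (k + 1 + 1)) (Fin (k + 1 + 1)) F)) := by
  obtain ⟨j, rfl⟩ : ∃ j, k = j + 1 := ⟨k - 1, by omega⟩
  obtain ⟨⟨h0, u, v, rfl⟩, hc⟩ := hL
  have hval : ∀ (w : Fin (j + 1 + 1 + 1) → F), w ᵥ* prM F (j + 1) = Fin.cons 0 (Fin.tail w) := fun w => by
    funext i; rw [prM, vecMul_diagonal]; cases i using Fin.cases <;> simp [Fin.tail]
  rw [luv_comp, hval, hval] at hc
  have hdot : ∀ (w : Fin (j + 1 + 1) → F) (x : Fin (j + 1 + 1 + 1) → F),
      (Fin.cons 0 w : Fin (j + 1 + 1 + 1) → F) ⬝ᵥ x = w ⬝ᵥ Fin.tail x := fun w x => by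
    conv_lhs => rw [← Fin.cons_self_tail x]
    rw [cons_dot]
    simp
  have hd : Dec (luv (Fin.tail u) (Fin.tail v) : Module.Dual F (AltM F (j + 1 + 1))) := by
    refine ⟨fun e => h0 ?_, _, _, rfl⟩
    rw [← hc]
    refine dual_ext fun a b _ => ?_
    have := congrArg (fun N => bf N (Fin.tail (α := fun _ => F) (Pi.single a 1))
      (Fin.tail (α := fun _ => F) (Pi.single b 1))) e
    simp only [bf_luv, bf_apply (0 : Module.Dual F (AltM F (j + 1 + 1))), LinearMap.zero_apply] at this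
    rw [bf_luv, bf_apply, LinearMap.zero_apply, hdot, hdot, hdot, hdot]
    exact this
  obtain ⟨g, hg⟩ := exists_dec_move (k := j) (by omega) hd
  rw [luv_comp] at hg
  refine ⟨g, ?_⟩
  rw [luv_comp, vecMul_emb, vecMul_emb]
  conv_lhs => rw [← hc]
  refine dual_ext fun a b _ => ?_
  have := congrArg (fun N => bf N (Fin.tail (α := fun _ => F) (Pi.single a 1))
    (Fin.tail (α := fun _ => F) (Pi.single b 1))) hg
  simp only [bf_luv] at this
  rw [bf_luv, bf_luv, hdot, hdot, hdot, hdot, hdot, hdot, hdot, hdot]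
  exact this

variable (h2 : (2 : F) ≠ 0) (hn : 3 ≤ k + 1 + 1) (hk : Odd k) (ρ : OmM (k + 1 + 1) (sqForm F) →* Module.End ℂ M)

theorem trP_move (g : Matrix.SpecialLinearGroup (Fin (k + 1 + 1)) F) {ε : F} (hε : ε * ε = 1)
    (hc : (g : Matrix (Fin (k + 1 + 1)) (Fin (k + 1 + 1)) F) *ᵥ Pi.single 0 1 = ε • Pi.single 0 1)
    (hr : (Pi.single 0 1 : Fin (k + 1 + 1) → F) ᵥ* (g : Matrix (Fin (k + 1 + 1)) (Fin (k + 1 + 1)) F) =
      ε • Pi.single 0 1)
    (L : Module.Dual F (AltM F (k + 1 + 1))) :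
    trP ρ (fC hn) (sInv h2 hn hk) (chi (L.comp (cg (g : Matrix (Fin (k + 1 + 1)) (Fin (k + 1 + 1)) F)))) =
      trP ρ (fC hn) (sInv h2 hn hk) (chi L) := by
  have hcomm : (g : Matrix (Fin (k + 1 + 1)) (Fin (k + 1 + 1)) F) * prM F k = prM F k * g := by
    have h1 : ∀ i : Fin (k + 1), (g : Matrix (Fin (k + 1 + 1)) (Fin (k + 1 + 1)) F) i.succ 0 = 0 := fun i => by
      simpa [mulVec_single] using congrFun hc i.succ
    have h2' : ∀ j : Fin (k + 1), (g : Matrix (Fin (k + 1 + 1)) (Fin (k + 1 + 1)) F) 0 j.succ = 0 := fun j => by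
      simpa [single_vecMul] using congrFun hr j.succ
    ext i j
    rw [prM, mul_diagonal, diagonal_mul]
    cases i using Fin.cases <;> cases j using Fin.cases <;> simp [h1, h2']
  have hθ : ∀ A, lvM (sqForm F) hn g * fC hn A * (lvM (sqForm F) hn g)⁻¹ = fC hn (cgE g A) := fun A => by
    rw [fC, lvM_conj_x, ← cg_mul, hcomm, cg_mul]; rfl
  have hs : lvM (sqForm F) hn g * sInv h2 hn hk * (lvM (sqForm F) hn g)⁻¹ = sInv h2 hn hk := by
    refine Subtype.ext ?_
    show (lvM (sqForm F) hn g).1 * negRefl _ (vB F k) Q_vB_ne * (lvM (sqForm F) hn g).1⁻¹ = negRefl _ (vB F k) Q_vB_ne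
    rw [negRefl_conj]
    have hv : mat (mixForm (k + 1 + 1) (sqForm F)) (lvM (sqForm F) hn g).1 *ᵥ vB F k = ε • vB F k := by
      rw [vB]
      refine (embP_mulVec (sqForm F) (lvG hn g).1 _ 0).trans ?_
      rw [show (lvG hn g).1 = lvI (Matrix.SpecialLinearGroup.toGL g) from rfl, mat_lvI, fromBlocks_mulVec,
        Sum.elim_comp_inl, Sum.elim_comp_inr, zero_mulVec, zero_mulVec, add_zero, zero_add, mulVec_transpose,
        ← map_inv]
      have e : (Pi.single 0 (-1) : Fin (k + 1 + 1) → F) ᵥ*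
          ((g⁻¹ : Matrix.SpecialLinearGroup (Fin (k + 1 + 1)) F) : Matrix (Fin (k + 1 + 1)) (Fin (k + 1 + 1)) F) =
          ε • Pi.single 0 (-1) := by
        have h1 : (ε * -1) • ((Pi.single 0 1 : Fin (k + 1 + 1) → F) ᵥ* (g : Matrix (Fin (k + 1 + 1)) (Fin (k + 1 + 1)) F)) =
            Pi.single 0 (-1) := by
          rw [hr, smul_smul, mul_comm ε (-1), mul_assoc, hε, mul_one, ← Pi.single_smul, smul_eq_mul, mul_one]
        rw [← h1, smul_vecMul, vecMul_vecMul, ← Matrix.SpecialLinearGroup.coe_mul, mul_inv_cancel,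
          Matrix.SpecialLinearGroup.coe_one, vecMul_one, hr, smul_smul, smul_smul]
        congr 1
        rcases mul_self_eq_one_iff.mp hε with rfl | rfl <;> ring
      funext i
      rcases i with (i | i) | i
      · exact congrFun hc i |>.trans (by simp)
      · exact (congrFun e i).trans (by simp)
      · simp
    rcases mul_self_eq_one_iff.mp hε with rfl | rfl
    · simp only [hv, one_smul]
    · simp only [hv, neg_one_smul, negRefl_neg _ _ Q_vB_ne]
  rw [← chiPull_cgE, ← trP_conj ρ (cgE g) hθ, hs]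

variable (hk1 : 1 ≤ k) (hodd : Odd (Fintype.card F)) (h3 : 3 < Fintype.card F)
  (hirr : IsIrr ρ) (hd2 : 2 ≤ Module.finrank ℂ M)
  (hd : Module.finrank ℂ M < BB (Fintype.card F) k) (hns : ¬ IsSquare (-1 : F))

include h2 hn hk hk1 hodd h3 hirr hd2 hd hns

theorem caseB : False := by
  classical
  obtain ⟨-, hdec, hz⟩ := odd_shape hk1 hodd h3 hn ρ hirr hd2 hd
  obtain ⟨e, he, hC⟩ := centre_zero h2 hn hk hk1 hodd h3 ρ hirr hd2 hd hns
  set q := Fintype.card F with hqdef
  have hsgn : ∀ L : Module.Dual F (AltM F (k + 1 + 1)), ∃ σ : ℤ, InD2 L → (σ = 1 ∨ σ = -1) ∧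
      trP ρ (fC hn) (sInv h2 hn hk) (chi L) = ((σ * (q : ℤ) ^ 2 : ℤ) : ℂ) := fun L => by
    by_cases hL : InD2 L
    · obtain ⟨σ, h⟩ := piece_sign h2 hn hk ρ hdec hz hL
      exact ⟨σ, fun _ => h⟩
    · exact ⟨0, fun h => absurd h hL⟩
  choose σ hσ using hsgn
  set D := Finset.univ.filter fun L : Module.Dual F (AltM F (k + 1 + 1)) => InD2 L with hD
  set G := ∑ L ∈ D, σ L
  have hT : LinearMap.trace ℂ M (ρ (sInv h2 hn hk)) =
      ((e * (S q (k + 1) : ℤ) + (q : ℤ) ^ 2 * G : ℤ) : ℂ) := by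
    rw [trace_eq_sum_trP ρ (f := fC hn) (fC_add (F := F) hn), ← Function.Bijective.sum_comp chi_bijective,
      ← Finset.sum_add_sum_compl D, add_comm,
      Finset.sum_eq_single_of_mem (0 : Module.Dual F (AltM F (k + 1 + 1)))
        (Finset.mem_compl.mpr fun h => (Finset.mem_filter.mp h).2.1.1 rfl) (fun L hL hne => by
          rw [trP_scalar ρ (fC_add hn) (c := 0) (fun x hx => by
            rw [eC_eq_bot hn ρ hz hne (by simpa [hD] using hL), Submodule.mem_bot] at hx
            rw [hx, map_zero, smul_zero]), zero_mul]), hC]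
    rw [Finset.sum_congr rfl (fun L hL => (hσ L (Finset.mem_filter.mp hL).2).2)]
    simp only [G, Int.cast_add, Int.cast_mul, Int.cast_sum, Int.cast_pow, Int.cast_natCast, Finset.mul_sum]
    congr 1
    exact Finset.sum_congr rfl fun L _ => by ring
  have hinv : ∀ g : Matrix.SpecialLinearGroup (Fin (k + 1 + 1)) F, ∀ ε : F, ε * ε = 1 →
      (g : Matrix (Fin (k + 1 + 1)) (Fin (k + 1 + 1)) F) *ᵥ Pi.single 0 1 = ε • Pi.single 0 1 →
      (Pi.single 0 1 : Fin (k + 1 + 1) → F) ᵥ* (g : Matrix (Fin (k + 1 + 1)) (Fin (k + 1 + 1)) F) = ε • Pi.single 0 1 →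
      ∀ L, InD2 L → InD2 (L.comp (cg (g : Matrix (Fin (k + 1 + 1)) (Fin (k + 1 + 1)) F))) →
        σ (L.comp (cg (g : Matrix (Fin (k + 1 + 1)) (Fin (k + 1 + 1)) F))) = σ L := by
    intro g ε hε hc hr L hL hL'
    have h := trP_move h2 hn hk ρ g hε hc hr L
    rw [(hσ L hL).2, (hσ _ hL').2] at h
    exact mul_right_cancel₀ (pow_ne_zero 2 (Nat.cast_ne_zero.mpr Fintype.card_ne_zero)) (by exact_mod_cast h)
  have hdvd := class_dvd ρ hirr hd2 (sInv h2 hn hk) hT
  have hK := card_class_negRefl (mixForm (k + 1 + 1) (sqForm F))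
    (mix_nondegenerate (n := k + 1 + 1) (sqForm F) (sqForm_nondeg h2)) h2 (card_idxM hn) Q_vB_ne
    (sB_mem h2 hn hk)
  rw [Q_vB, card_odd_value (F := F) (k := k) (neg_ne_zero.mpr one_ne_zero),
    show (Finset.univ.filter fun w : F => w * w = -1) = ∅ from Finset.filter_eq_empty_iff.mpr
      fun w _ h => hns ⟨w, h.symm⟩, Finset.card_empty, add_zero] at hK
  obtain ⟨hd', -, hN'⟩ := odd_numbers hk1 hodd h3 hn ρ hirr hd2 hd
  have hq5 : 5 ≤ q := by
    have : q ≠ 4 := fun e => absurd hodd (by rw [e]; decide)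
    omega
  have hdvd' : (Module.finrank ℂ M : ℤ) ∣ (q : ℤ) * (q : ℤ) ^ (k + 1) * ((q : ℤ) * (q : ℤ) ^ (k + 1) - 1) *
      (e * (S q (k + 1) : ℤ) + (q : ℤ) ^ 2 * G) := by
    refine (hdvd.mul_left 2).trans (dvd_of_eq ?_)
    have hK' : ((2 * Nat.card {x : OmM (k + 1 + 1) (sqForm F) // IsConj (sInv h2 hn hk) x} : ℕ) : ℤ) =
        (q : ℤ) * (q : ℤ) ^ (k + 1) * ((q : ℤ) * (q : ℤ) ^ (k + 1) - 1) := by
      rw [show 2 * Nat.card {x : OmM (k + 1 + 1) (sqForm F) // IsConj (sInv h2 hn hk) x} =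
        Fintype.card F ^ (k + 1 + 1) * (Fintype.card F ^ (k + 1 + 1) - 1) from hK]
      push_cast [Nat.cast_sub (Nat.one_le_pow (k + 1 + 1) (Fintype.card F) Fintype.card_pos)]
      ring
    rw [← hK']
    push_cast
    ring
  have hDcard := card_D2 (F := F) hk1
  rw [Nat.card_eq_fintype_card, Fintype.card_subtype, ← hD] at hDcard
  rw [← hqdef] at hDcard hN' hd'
  have hS' := S_mul q (k + 1) (by omega)
  have h1 : ∀ j, 1 ≤ q ^ j := fun j => Nat.one_le_pow _ _ (by omega)
  have hDq : (q : ℤ) * (D.card : ℤ) * ((q : ℤ) ^ 2 - 1) =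
      ((q : ℤ) ^ (k + 1) - 1) * ((q : ℤ) ^ (k + 1) - q) := by
    zify [h1 (k + 1)] at hDcard
    rw [← hDcard] at hN'
    rw [pow_succ (q : ℤ) k] at hN' ⊢
    linear_combination (q : ℤ) * hN'
  zify [h1 (k + 1), (show 1 ≤ q by omega)] at hS'
  by_cases hk3 : k = 1
  · subst hk3
    have hDn : (D.card : ℤ) = (q : ℤ) - 1 := by
      refine mul_left_cancel₀ (show (q : ℤ) * ((q : ℤ) ^ 2 - 1) ≠ 0 by
        have : (5 : ℤ) ≤ q := by exact_mod_cast hq5
        exact mul_ne_zero (by omega) (by nlinarith)) ?_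
      linear_combination hDq
    have hpm : ∀ L ∈ D, σ L = 1 ∨ σ L = -1 := fun L hL => (hσ L (Finset.mem_filter.mp hL).2).1
    have hGb : G ≤ (q : ℤ) - 1 ∧ -((q : ℤ) - 1) ≤ G := by
      rw [← hDn]
      constructor
      · refine (Finset.sum_le_sum fun L hL => (show σ L ≤ 1 by rcases hpm L hL with h | h <;> omega)).trans ?_
        simp
      · refine le_trans ?_ (Finset.sum_le_sum fun L hL => (show -1 ≤ σ L by rcases hpm L hL with h | h <;> omega))
        simp
    have hG0 : G ≠ 0 := by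
      intro hG
      set dd : Fin (1 + 1 + 1) → F := ![-1, -1, 1]
      have hdd : ∏ i, dd i = 1 := by simp [dd, Fin.prod_univ_three]
      set d := dia dd hdd
      have hflip : ∀ L, InD2 L → InD2 (L.comp (cg (d : Matrix (Fin (1 + 1 + 1)) (Fin (1 + 1 + 1)) F))) ∧
          L.comp (cg (d : Matrix (Fin (1 + 1 + 1)) (Fin (1 + 1 + 1)) F)) ≠ L := by
        intro L hL
        have hd1 : (d : Matrix (Fin (1 + 1 + 1)) (Fin (1 + 1 + 1)) F) * d = 1 := by
          rw [coe_dia, diagonal_mul_diagonal, ← diagonal_one]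
          congr 1; funext i; fin_cases i <;> simp [dd]
        refine ⟨⟨hL.1.comp hd1, ?_⟩, fun hfix => ?_⟩
        · rw [comp_cg_mul, show (d : Matrix (Fin (1 + 1 + 1)) (Fin (1 + 1 + 1)) F) * prM F 1 = prM F 1 * d by
            rw [coe_dia, prM, diagonal_mul_diagonal, diagonal_mul_diagonal]; simp only [mul_comm],
            ← comp_cg_mul, hL.2]
        · obtain ⟨-, hrad⟩ := (inD2_iff L).mp hL
          have h12 : bf L (Pi.single 1 1) (Pi.single 2 1) = 0 := by
            have h := congrArg (fun N => bf N (Pi.single 1 1) (Pi.single 2 1)) hfix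
            simp only [bf_comp] at h
            rw [coe_dia, show diagonal dd *ᵥ Pi.single 1 1 = (-1 : F) • Pi.single 1 1 by
                funext i; rw [mulVec_diagonal]; fin_cases i <;> simp [dd],
              show diagonal dd *ᵥ Pi.single 2 1 = Pi.single 2 1 by
                funext i; rw [mulVec_diagonal]; fin_cases i <;> simp [dd],
              map_smul, LinearMap.smul_apply, neg_one_smul] at h
            exact (mul_eq_zero.mp (show (2 : F) * bf L (Pi.single 1 1) (Pi.single 2 1) = 0 by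
              linear_combination -h)).resolve_left h2
          refine hL.1.1 (dual_ext fun i j hij => ?_)
          rw [bf_apply (0 : Module.Dual F (AltM F (1 + 1 + 1))), LinearMap.zero_apply]
          fin_cases i <;> fin_cases j <;>
            first
              | exact absurd rfl hij
              | exact hrad _
              | (rw [bf_swap]; exact neg_eq_zero.mpr (hrad _))
              | exact h12
              | (rw [bf_swap]; exact neg_eq_zero.mpr h12)
      set P := D.filter fun L => σ L = 1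
      have hPeven : (P.card : ZMod 2) = 0 := by
        rw [Finset.card_eq_sum_ones, Nat.cast_sum]
        refine Finset.sum_involution
          (fun L _ => L.comp (cg (d : Matrix (Fin (1 + 1 + 1)) (Fin (1 + 1 + 1)) F))) (fun L _ => by decide)
          (fun L hL _ => (hflip L (Finset.mem_filter.mp (Finset.mem_filter.mp hL).1).2).2) (fun L hL => ?_)
          (fun L _ => ?_)
        · obtain ⟨hLD, hL1⟩ := Finset.mem_filter.mp hL
          have hL2 := (Finset.mem_filter.mp hLD).2
          have hfl := (hflip L hL2).1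
          refine Finset.mem_filter.mpr ⟨Finset.mem_filter.mpr ⟨Finset.mem_univ _, hfl⟩, ?_⟩
          rw [hinv d (-1) (by ring) ?_ ?_ L hL2 hfl, hL1]
          · funext i; rw [coe_dia, mulVec_diagonal]; fin_cases i <;> simp [dd]
          · funext i; rw [coe_dia, vecMul_diagonal]; fin_cases i <;> simp [dd]
        · rw [comp_cg_mul, coe_dia, diagonal_mul_diagonal,
            show (fun i => dd i * dd i) = 1 by funext i; fin_cases i <;> simp [dd], Matrix.diagonal_one', comp_cg_one]
      have hGP : G = 2 * (P.card : ℤ) - ((q : ℤ) - 1) := by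
        rw [← hDn, show G = ∑ L ∈ D, ((if σ L = 1 then (2 : ℤ) else 0) - 1) from Finset.sum_congr rfl fun L hL => by
          rcases hpm L hL with h | h <;> simp [h], Finset.sum_sub_distrib, ← Finset.sum_filter]
        simp [P, mul_comm]
      obtain ⟨c, hc⟩ := (ZMod.natCast_eq_zero_iff_even).mp hPeven
      have h4 : Fintype.card F % 4 = 3 := by
        rw [FiniteField.isSquare_neg_one_iff] at hns
        simpa using hns
      omega
    refine arith_one (q := (q : ℤ)) (d := Module.finrank ℂ M) (e := e) (G := G) (by exact_mod_cast hq5) hd' he hG0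
      hGb.1 hGb.2 (hdvd'.trans (dvd_of_eq ?_))
    have : (S q (1 + 1) : ℤ) = (q : ℤ) + 1 := by
      refine mul_right_cancel₀ (show (q : ℤ) - 1 ≠ 0 by omega) ?_
      linear_combination hS'
    rw [this]
  · have hk3' : 3 ≤ k := by obtain ⟨m, rfl⟩ := hk; omega
    obtain ⟨L0, hL0⟩ : ∃ L0 : Module.Dual F (AltM F (k + 1 + 1)), L0 =
        luv (Fin.cons 0 (Pi.single 0 1)) (Fin.cons 0 (Pi.single 1 1)) := ⟨_, rfl⟩
    have h01 : (1 : Fin (k + 1)) ≠ 0 := by simp [Fin.ext_iff, Nat.mod_eq_of_lt (show 1 < k + 1 by omega)]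
    have hL0D : InD2 L0 := by
      refine ⟨⟨fun e0 => ?_, _, _, hL0⟩, ?_⟩
      · have := congrArg (fun N => bf N (Fin.cons 0 (Pi.single 0 1)) (Fin.cons 0 (Pi.single 1 1))) (hL0.symm.trans e0)
        simp [bf_luv, bf_apply (0 : Module.Dual F (AltM F (k + 1 + 1))), dotProduct, Fin.sum_univ_succ,
          Pi.single_apply, h01] at this
      · rw [hL0, luv_comp]
        congr 1 <;>
        · funext i; rw [prM, vecMul_diagonal]; cases i using Fin.cases <;> simp
    have hconst : ∀ L ∈ D, σ L = σ L0 := by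
      intro L hL
      have hL2 := (Finset.mem_filter.mp hL).2
      obtain ⟨g, hg⟩ := exists_D2_move (by omega) hL2
      rw [← hL0] at hg
      rw [hg]
      refine hinv (emb g) 1 (one_mul 1) ?_ ?_ L0 hL0D (hg ▸ hL2)
      · rw [emb_fix_col, one_smul]
      · rw [single_zero_cons, vecMul_emb, zero_vecMul, one_smul]
    have hG : G = σ L0 * (D.card : ℤ) := by
      show ∑ L ∈ D, σ L = _
      rw [Finset.sum_congr rfl hconst, Finset.sum_const, nsmul_eq_mul, mul_comm]
    rw [hG] at hdvd'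
    exact arith_big hk3' (by exact_mod_cast hq5) hd' (s := (S q (k + 1) : ℤ)) (by linear_combination hS') hDq he (hσ L0 hL0D).1 hdvd'

omit h2 hn hk ρ hk1 hns hirr hd2 hd

/-- No representation of the odd orthogonal groups is below the bound. -/
theorem odd_no_small (hk1 : 1 ≤ k) (hn : 3 ≤ k + 1 + 1) (ρ' : OmM (k + 1 + 1) (sqForm F) →* Module.End ℂ M)
    (hirr' : IsIrr ρ') (hd2' : 2 ≤ Module.finrank ℂ M) : BB (Fintype.card F) k ≤ Module.finrank ℂ M := by
  by_contra hlt
  push Not at hlt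
  by_cases hsq : IsSquare ((-1 : F) ^ (k + 1 + 1))
  · exact caseA hk1 hodd h3 hn ρ' hirr' hd2' hlt hsq
  · have hk : Odd k := by
      rw [← Nat.not_even_iff_odd]
      intro hk
      exact hsq ((hk.add_one.add_one).isSquare_pow (-1))
    have hns : ¬ IsSquare (-1 : F) := fun h => hsq (h.pow _)
    exact caseB (two_ne hodd) hn hk ρ' hk1 hodd h3 hirr' hd2' hlt hns

end Cfsg.Lib.OrthMinDeg
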