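import Cfsg.Agent.Known.OrthMinDegree.Odd.Centre

/-! The Heisenberg group of the next parabolic over the vectors of a plane. -/

set_option autoImplicit false
set_option linter.unusedSectionVars false
set_option linter.style.haveILetI false

open Matrix Cfsg.Lib.Classical Cfsg.Lib.Classical.Refl Cfsg.Lib.Classical.HypQuad Cfsg.Lib.SLMinDeg

namespace Cfsg.Lib.OrthMinDeg

universe u

variable {F : Type u} [Field F] [Fintype F] {k : ℕ}

/-- A vector of the span of the first pair and the extra coordinate. -/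
def zV (c : Fin 3 → F) : (Fin (k + 1 + 1) ⊕ Fin (k + 1 + 1)) ⊕ Unit → F :=
  Sum.elim (Sum.elim (Pi.single 0 (c 0 + c 1)) (Pi.single 0 (c 1 - c 0))) fun _ => c 2

theorem zV_add (c c' : Fin 3 → F) : zV (k := k) (c + c') = zV c + zV c' := by
  funext i
  rcases i with (i | i) | i <;> simp [zV, Pi.single_apply]
  · split_ifs <;> ring
  · split_ifs <;> ring

theorem polar_zV (c c' : Fin 3 → F) :
    QuadraticMap.polar (⇑(mixForm (k + 1 + 1) (sqForm F))) (zV c) (zV c') =
      2 * (c 1 * c' 1 - c 0 * c' 0 + c 2 * c' 2) := by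
  rw [zV, zV, polar_mix, Sum.elim_comp_inl, Sum.elim_comp_inl, Sum.elim_comp_inr, Sum.elim_comp_inr,
    inL_or_inR_coord, Sum.elim_comp_inl, Sum.elim_comp_inr, single_dotProduct, single_dotProduct,
    polar_sqForm, Pi.single_eq_same, Pi.single_eq_same]
  ring

theorem polar_Lp_zV (α : Fin (k + 1) → F) (c : Fin 3 → F) :
    QuadraticMap.polar (⇑(mixForm (k + 1 + 1) (sqForm F))) (inLp (Fin.cons 0 α)) (zV c) = 0 := by
  rw [inLp, zV, polar_mix, Sum.elim_comp_inl, Sum.elim_comp_inl, Sum.elim_comp_inr, Sum.elim_comp_inr, inL,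
    inL_or_inR_coord, Sum.elim_comp_inl, Sum.elim_comp_inr, QuadraticMap.polar_zero_left, dotProduct_single,
    Fin.cons_zero, dotProduct_zero, zero_mul, add_zero, add_zero]

variable (h2 : (2 : F) ≠ 0) (hn : 3 ≤ k + 1 + 1)

/-- An element of the Heisenberg group. -/
noncomputable def eS (α : Fin (k + 1) → F) (c : Fin 3 → F) : OmM (k + 1 + 1) (sqForm F) :=
  sgM (sqForm F) (sqForm_nondeg h2) hn (mix_inLp (sqForm F) (Fin.cons 0 α)) (polar_Lp_zV α c)

theorem eS_add (α : Fin (k + 1) → F) (c c' : Fin 3 → F) :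
    eS h2 hn α (c + c') = eS h2 hn α c * eS h2 hn α c' := by
  refine Subtype.ext ?_
  simp only [eS, sgM, Subgroup.coe_mul]
  rw [siegelG_mul]
  exact siegelG_congr _ _ _ _ rfl (zV_add c c')

theorem eS_fix (α : Fin (k + 1) → F) (c : Fin 3 → F) {b : Fin (k + 1 + 1) → F} (hb : b 0 = 0) :
    mat (mixForm (k + 1 + 1) (sqForm F)) (eS h2 hn α c).1 *ᵥ inLp b = inLp b := by
  have e : QuadraticMap.polar (⇑(mixForm (k + 1 + 1) (sqForm F))) (zV c) (inLp b) = 0 := by
    rw [QuadraticMap.polar_comm, ← Fin.cons_self_tail b, hb, polar_Lp_zV]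
  simp only [eS, sgM]
  rw [mat_siegelG, siegelMap, polar_Lp_Lp, e]
  simp

theorem prM_cons (α : Fin (k + 1) → F) : prM F k *ᵥ Fin.cons 0 α = Fin.cons 0 α := by
  rw [prM_mulVec, Fin.tail_cons]

theorem fC_eS (α : Fin (k + 1) → F) (c : Fin 3 → F) (A : AltM F (k + 1 + 1)) :
    fC hn A * eS h2 hn α c = eS h2 hn α c * fC hn A := by
  suffices eS h2 hn α c * fC hn A * (eS h2 hn α c)⁻¹ = fC hn A from (mul_inv_eq_iff_eq_mul.mp this).symm
  induction A using alt_induction with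
  | h0 => rw [fC_zero, mul_one, mul_inv_cancel]
  | hadd A B hA hB =>
    rw [fC_add]
    conv_rhs => rw [← hA, ← hB]
    group
  | hgen i j d _ =>
    rw [fC, cg_wd, xM_wd (sqForm F) (sqForm_nondeg h2) hn]
    have h0 : ∀ b, (prM F k *ᵥ b) 0 = 0 := fun b => (congrFun (prM_mulVec b) 0).trans (Fin.cons_zero _ _)
    exact Subtype.ext (sgM_conj (sqForm F) (sqForm_nondeg h2) hn _ (eS_fix h2 hn α c (h0 _))
      (eS_fix h2 hn α c (h0 _)))

theorem eS_comm (α β : Fin (k + 1) → F) (c c' : Fin 3 → F) :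
    eS h2 hn α c * eS h2 hn β c' = eS h2 hn β c' *
      fC hn ((-(2 * (c 1 * c' 1 - c 0 * c' 0 + c 2 * c' 2))) • wd (Fin.cons 0 α) (Fin.cons 0 β)) * eS h2 hn α c := by
  rw [← mul_inv_eq_iff_eq_mul, fC, map_smul, cg_wd, prM_cons, prM_cons, ← wd_smul_left,
    xM_wd (sqForm F) (sqForm_nondeg h2) hn, ← polar_zV (k := k) c c']
  refine Subtype.ext ?_
  have h1 : mat (mixForm (k + 1 + 1) (sqForm F)) (eS h2 hn α c).1 *ᵥ inLp (Fin.cons 0 β) = inLp (Fin.cons 0 β) :=
    eS_fix h2 hn α c (Fin.cons_zero _ _)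
  have h2' : mat (mixForm (k + 1 + 1) (sqForm F)) (eS h2 hn α c).1 *ᵥ zV c' = zV c' +
      inLp ((-QuadraticMap.polar (⇑(mixForm (k + 1 + 1) (sqForm F))) (zV c) (zV c')) •
        (Fin.cons 0 α : Fin (k + 1 + 1) → F)) := by
    simp only [eS, sgM]
    rw [mat_siegelG, siegelMap, polar_Lp_zV]
    funext i
    rcases i with (i | i) | i <;> simp [inLp, inL]
  simp only [Subgroup.coe_mul, Subgroup.coe_inv]
  conv_lhs => arg 1; arg 2; simp only [eS, sgM]
  conv_rhs => simp only [eS, sgM]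
  rw [siegelG_conj, siegelG_mul]
  exact siegelG_congr _ _ _ _ h1 h2'

theorem eS_commute (α β : Fin (k + 1) → F) {c c' : Fin 3 → F}
    (h : c 1 * c' 1 - c 0 * c' 0 + c 2 * c' 2 = 0) :
    eS h2 hn α c * eS h2 hn β c' = eS h2 hn β c' * eS h2 hn α c := by
  rw [eS_comm h2 hn α β c c', h, mul_zero, neg_zero, zero_smul, fC_zero, mul_one]

variable (hk : Odd k)

theorem sInv_eS (α : Fin (k + 1) → F) (c : Fin 3 → F) :
    sInv h2 hn hk * eS h2 hn α c * (sInv h2 hn hk)⁻¹ = eS h2 hn α ![-c 0, c 1, c 2] := by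
  have hz : mat (mixForm (k + 1 + 1) (sqForm F)) (negRefl _ (vB F k) Q_vB_ne) *ᵥ zV c =
      zV ![c 0, -c 1, -c 2] := by
    rw [negRefl_mulVec, Q_vB, show vB F k = zV ![1, 0, 0] by
      funext i; rcases i with (i | i) | i <;> simp [vB, zV], polar_zV]
    funext i
    rcases i with (i | i) | i <;> simp [zV, Pi.single_apply]
    · split_ifs <;> field_simp <;> ring
    · split_ifs <;> field_simp <;> ring
  have hu : mat (mixForm (k + 1 + 1) (sqForm F)) (negRefl _ (vB F k) Q_vB_ne) *ᵥ inLp (Fin.cons 0 α) =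
      inLp (-Fin.cons 0 α) := negRefl_inLp (Fin.cons_zero _ _)
  have hu' : mixForm (k + 1 + 1) (sqForm F) (inLp (-Fin.cons 0 α)) = 0 := mix_inLp _ _
  have huz' : QuadraticMap.polar (⇑(mixForm (k + 1 + 1) (sqForm F))) (inLp (-Fin.cons 0 α))
      (zV ![c 0, -c 1, -c 2]) = 0 := by
    rw [show (-Fin.cons 0 α : Fin (k + 1 + 1) → F) = Fin.cons 0 (-α) by
      funext i; cases i using Fin.cases <;> simp, polar_Lp_zV]
  refine Subtype.ext ?_
  refine (sgM_conj (sqForm F) (sqForm_nondeg h2) hn _ (hu' := hu') (huz' := huz') hu hz).trans ?_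
  refine ext_mulVec _ fun x => ?_
  simp only [eS, sgM, mat_siegelG]
  rw [show inLp (κ := Unit) (-Fin.cons 0 α : Fin (k + 1 + 1) → F) = (-1 : F) • inLp (Fin.cons 0 α) by
      funext i; rcases i with (i | i) | i <;> simp [inLp, inL],
    OrthTwoGen.siegel_smul_left,
    show (-1 : F) • zV (k := k) ![c 0, -c 1, -c 2] = zV ![-c 0, c 1, c 2] by
      funext i; rcases i with (i | i) | i <;> simp [zV, Pi.single_apply] <;> split_ifs <;> ring]

end Cfsg.Lib.OrthMinDeg
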