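import Cfsg.Agent.Known.OrthMinDegree.Odd.CaseB
import Cfsg.Agent.Classical.OrthSylowTwo.Transport

/-! The smallest degree of a non-trivial representation of the odd-dimensional `Ω`, on the standard form. -/

set_option autoImplicit false
set_option linter.unusedSectionVars false
set_option linter.style.haveILetI false

open Matrix Cfsg.Lib.SLMinDeg Cfsg.Lib.Classical.HypQuad

namespace Cfsg.Lib.OrthMinDeg

universe u v

variable {F : Type u} [Field F] [Fintype F]

/-- The standard odd form as a quadratic form. -/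
def oddStd (F : Type u) [Field F] (n : ℕ) : QuadraticForm F (Unit ⊕ (Fin n ⊕ Fin n) → F) :=
  (mixForm n (sqForm F)).comp (LinearMap.funLeft F F (Equiv.sumComm _ _))

theorem oddStd_apply (n : ℕ) : (⇑(oddStd F n) : (Unit ⊕ (Fin n ⊕ Fin n) → F) → F) = Cfsg.quadFormOdd n F := by
  funext v
  show mixForm n (sqForm F) (v ∘ Equiv.sumComm _ _) = _
  rw [mix_apply, plus_dot, sqForm_apply, Cfsg.quadFormOdd, add_comm, sq]
  rfl

theorem BB_mul {k : ℕ} (hk : 1 ≤ k) (hodd : Odd (Fintype.card F)) (h3 : 3 < Fintype.card F) :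
    BB (Fintype.card F) k * (Fintype.card F ^ 2 - 1) = Fintype.card F ^ (2 * (k + 1 + 1)) - 1 := by
  have hN := N_mul (F := F) hk hodd h3
  have hS := S_mul (Fintype.card F) (k + 1 + 1) (by omega)
  rw [BB_eq hk hodd h3]
  set q := Fintype.card F
  have h1 : ∀ j, 1 ≤ q ^ j := fun j => Nat.one_le_pow _ _ (by omega)
  zify [h1 2, h1 (k + 1), h1 (k + 1 + 1), h1 (2 * (k + 1 + 1)), (show 1 ≤ q by omega)] at hN hS ⊢
  rw [pow_mul', pow_succ (q : ℤ) (k + 1)] at *
  linear_combination (q : ℤ) * hN + ((q : ℤ) + 1) * hS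

theorem odd_bound {k : ℕ} (hk : 1 ≤ k) (hodd : Odd (Fintype.card F)) (h3 : 3 < Fintype.card F)
    {M : Type v} [AddCommGroup M] [Module ℂ M] [FiniteDimensional ℂ M]
    (ρ : ↥(Cfsg.Omega F (Cfsg.quadFormOdd (k + 1 + 1) F)) →* Module.End ℂ M) (hirr : IsIrr ρ)
    (hd2 : 2 ≤ Module.finrank ℂ M) :
    (Fintype.card F ^ (2 * (k + 1 + 1)) - 1) / (Fintype.card F ^ 2 - 1) ≤ Module.finrank ℂ M := by
  revert ρ
  rw [← oddStd_apply (F := F) (k + 1 + 1)]
  intro ρ hirr
  obtain ⟨e⟩ := Cfsg.Lib.OrthSylowTwo.exists_equiv (oddStd F (k + 1 + 1)) (mixForm (k + 1 + 1) (sqForm F))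
    (LinearEquiv.funCongrLeft F F (Equiv.sumComm Unit (Fin (k + 1 + 1) ⊕ Fin (k + 1 + 1)))) (fun x => by
      show mixForm (k + 1 + 1) (sqForm F) _ = _
      congr 1
      funext i; rcases i with i | i <;> rfl)
  obtain ⟨eO⟩ := Cfsg.Lib.OrthSylowTwo.omega_equiv e
  let f : OmM (k + 1 + 1) (sqForm F) →* ↥(Cfsg.Omega F (⇑(oddStd F (k + 1 + 1)))) := eO.toMonoidHom
  have hirr' : IsIrr (ρ.comp f) := fun U hU => hirr U fun g => by
    have h := hU (eO.symm g)
    rwa [MonoidHom.comp_apply, show f (eO.symm g) = g from eO.apply_symm_apply g] at h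
  have h := odd_no_small hodd h3 hk (by omega) (ρ.comp f) hirr' hd2
  rw [← BB_mul hk hodd h3, Nat.mul_div_cancel _ (Nat.sub_pos_of_lt (Nat.one_lt_pow two_ne_zero (by omega)))]
  exact h

end Cfsg.Lib.OrthMinDeg
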