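import Cfsg.Agent.Known.OrthMinDegree.Odd.Elem
import Cfsg.Agent.Known.OrthMinDegree.Mixed.Heis

/-! The involution on a non-zero weight space of the centre of the next parabolic's radical. -/

set_option autoImplicit false
set_option linter.unusedSectionVars false
set_option linter.style.haveILetI false

open Matrix Cfsg.Lib.Classical Cfsg.Lib.Classical.Refl Cfsg.Lib.Classical.HypQuad Cfsg.Lib.SLMinDeg
open Cfsg.Lib.RepEigen

namespace Cfsg.Lib.OrthMinDeg

universe u v

theorem eig_map_comm {G M : Type*} [Group G] [AddCommGroup M] [Module ℂ M] [FiniteDimensional ℂ M]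
    (ρ : G →* Module.End ℂ M) {A : Type*} [AddCommGroup A] [Fintype A] {f : A → G} {g : G}
    (h : ∀ a, g * f a = f a * g) {χ : AddChar A ℂ} {x : M} (hx : x ∈ eig ρ f χ) : ρ g x ∈ eig ρ f χ :=
  map_mem_eig ρ id Function.surjective_id (fun a => by rw [h, mul_inv_cancel_right]; rfl) (fun _ => rfl) hx

variable {F : Type u} [Field F] [Fintype F] {k : ℕ}

/-- The decomposable functionals with the first vector in the radical. -/
def InD2 (L : Module.Dual F (AltM F (k + 1 + 1))) : Prop := Dec L ∧ L.comp (cg (prM F k)) = L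

theorem prM_idem (A : AltM F (k + 1 + 1)) : cg (prM F k) (cg (prM F k) A) = cg (prM F k) A := by
  rw [← cg_mul, prM, diagonal_mul_diagonal]
  congr 3
  funext i; cases i using Fin.cases <;> simp

theorem bf_cons {L : Module.Dual F (AltM F (k + 1 + 1))} (h : L.comp (cg (prM F k)) = L)
    (x y : Fin (k + 1 + 1) → F) : bf L x y = bf L (Fin.cons 0 (Fin.tail x)) (Fin.cons 0 (Fin.tail y)) := by
  conv_lhs => rw [← h, bf_comp, prM_mulVec, prM_mulVec]

theorem exists_frame {L : Module.Dual F (AltM F (k + 1 + 1))} (hL : InD2 L) :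
    ∃ α β : Fin (k + 1) → F, bf L (Fin.cons 0 α) (Fin.cons 0 β) = 1 := by
  obtain ⟨i, j, hij⟩ : ∃ i j, bf L (Pi.single i 1) (Pi.single j 1) ≠ 0 := by
    by_contra hc
    push Not at hc
    exact hL.1.1 (dual_ext fun i j _ => (hc i j).trans (by simp [bf_apply]))
  rw [bf_cons hL.2] at hij
  set a : Fin (k + 1) → F := Fin.tail (α := fun _ => F) (Pi.single i 1)
  set b : Fin (k + 1) → F := Fin.tail (α := fun _ => F) (Pi.single j 1)
  refine ⟨a, (bf L (Fin.cons 0 a) (Fin.cons 0 b))⁻¹ • b, ?_⟩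
  rw [cons_smul0, map_smul, smul_eq_mul, inv_mul_cancel₀ hij]

theorem card_over_le {L : Module.Dual F (AltM F (k + 1 + 1))} (hL : InD2 L) :
    Nat.card {L' : Module.Dual F (AltM F (k + 1 + 1)) // Dec L' ∧ L'.comp (cg (prM F k)) = L} ≤
      Fintype.card F * Fintype.card F := by
  classical
  obtain ⟨α, β, hαβ⟩ := exists_frame hL
  rw [← Fintype.card_prod, ← Nat.card_eq_fintype_card]
  refine Nat.card_le_card_of_injective
    (fun L' => (bf L'.1 (Fin.cons 0 α) (Pi.single 0 1), bf L'.1 (Fin.cons 0 β) (Pi.single 0 1))) ?_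
  rintro ⟨L1, hd1, h1⟩ ⟨L2, hd2, h2⟩ he
  simp only [Prod.mk.injEq] at he
  have hval : ∀ (L' : Module.Dual F (AltM F (k + 1 + 1))), L'.comp (cg (prM F k)) = L → ∀ a b : Fin (k + 1) → F,
      bf L' (Fin.cons 0 a) (Fin.cons 0 b) = bf L (Fin.cons 0 a) (Fin.cons 0 b) := fun L' h a b => by
    rw [← h, bf_comp, prM_cons, prM_cons]
  have hrow : ∀ p : Fin (k + 1) → F, bf L1 (Fin.cons 0 p) (Pi.single 0 1) = bf L2 (Fin.cons 0 p) (Pi.single 0 1) →
      ∀ j, bf L1 (Fin.cons 0 p) (Pi.single j 1) = bf L2 (Fin.cons 0 p) (Pi.single j 1) := by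
    intro p hp j
    cases j using Fin.cases with
    | zero => exact hp
    | succ i =>
      rw [show (Pi.single i.succ 1 : Fin (k + 1 + 1) → F) = Fin.cons 0 (Pi.single i 1) by
        funext l; cases l using Fin.cases <;> simp [Pi.single_apply], hval L1 h1, hval L2 h2]
  refine Subtype.ext (dual_ext fun i j _ => ?_)
  have e1 := dec_plucker hd1 (Fin.cons 0 α) (Fin.cons 0 β) (Pi.single i 1) (Pi.single j 1)
  have e2 := dec_plucker hd2 (Fin.cons 0 α) (Fin.cons 0 β) (Pi.single i 1) (Pi.single j 1)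
  rw [hval L1 h1, hαβ, one_mul] at e1
  rw [hval L2 h2, hαβ, one_mul] at e2
  show bf L1 _ _ = bf L2 _ _
  rw [e1, e2, hrow α he.1, hrow α he.1, hrow β he.2, hrow β he.2]

variable {M : Type v} [AddCommGroup M] [Module ℂ M] [FiniteDimensional ℂ M]
  (h2 : (2 : F) ≠ 0) (hn : 3 ≤ k + 1 + 1) (hk : Odd k)
  (ρ : OmM (k + 1 + 1) (sqForm F) →* Module.End ℂ M)
  (hdec : ∀ L : Module.Dual F (AltM F (k + 1 + 1)), Dec L → Module.finrank ℂ (Eg hn (rhoP (sqForm F) ρ) L) = RR F Unit)
  (hz : ∀ L : Module.Dual F (AltM F (k + 1 + 1)), L ≠ 0 → ¬ Dec L → Eg hn (rhoP (sqForm F) ρ) L = ⊥)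

omit hdec hz in
theorem eC_inf_zero {L L' : Module.Dual F (AltM F (k + 1 + 1))} (h : L'.comp (cg (prM F k)) ≠ L) :
    eig ρ (fC hn) (chi L) ⊓ eig ρ (xM (sqForm F) hn) (chi L') = ⊥ := by
  rw [Submodule.eq_bot_iff]
  intro x hx
  by_contra hx0
  refine h (chi_injective (DFunLike.ext _ _ fun A => ?_))
  have h1 := (mem_eig ρ).mp hx.1 A
  have h2' := (mem_eig ρ).mp hx.2 (cg (prM F k) A)
  rw [fC] at h1
  exact smul_left_injective ℂ hx0 (h2'.symm.trans h1)

omit hdec hz in
theorem le_eC {L : Module.Dual F (AltM F (k + 1 + 1))} (h : L.comp (cg (prM F k)) = L) :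
    eig ρ (xM (sqForm F) hn) (chi L) ≤ eig ρ (fC hn) (chi L) := fun x hx => (mem_eig ρ).mpr fun A => by
  rw [fC, (mem_eig ρ).mp hx, chi_apply, chi_apply, ← LinearMap.comp_apply, h]

include hz in
theorem eC_eq_bot {L : Module.Dual F (AltM F (k + 1 + 1))} (hL : L ≠ 0) (h : ¬ InD2 L) :
    eig ρ (fC hn) (chi L) = ⊥ := by
  classical
  rw [← Submodule.finrank_eq_zero, ← sum_finrank_inf ρ (xM_add (sqForm F) hn)
    (fun A x hx => eig_map_comm ρ (fun B => by rw [fC, ← xM_add, ← xM_add]; exact congrArg _ (add_comm _ _)) hx),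
    ← Function.Bijective.sum_comp chi_bijective]
  refine Finset.sum_eq_zero fun L' _ => Submodule.finrank_eq_zero.mpr ?_
  by_cases h' : L'.comp (cg (prM F k)) = L
  swap
  · exact eC_inf_zero hn ρ h'
  have h0 : L' ≠ 0 := fun e => hL (by rw [← h', e, LinearMap.zero_comp])
  have hD : ¬ Dec L' := fun hD => h ⟨by
    obtain ⟨-, u, v, rfl⟩ := hD
    exact ⟨hL, _, _, h'.symm.trans (luv_comp u v _)⟩,
    by rw [← h']; exact LinearMap.ext fun A => congrArg L' (prM_idem A)⟩
  exact le_bot_iff.mp (inf_le_right.trans (le_of_eq (hz L' h0 hD)))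

include hdec hz in
theorem finrank_eC {L : Module.Dual F (AltM F (k + 1 + 1))} (hL : InD2 L) :
    0 < Module.finrank ℂ (eig ρ (fC hn) (chi L)) ∧
      Module.finrank ℂ (eig ρ (fC hn) (chi L)) ≤ Fintype.card F * (Fintype.card F * Fintype.card F) := by
  classical
  constructor
  · refine lt_of_lt_of_le ?_ (Submodule.finrank_mono (le_eC hn ρ hL.2))
    rw [show eig ρ (xM (sqForm F) hn) (chi L) = Eg hn (rhoP (sqForm F) ρ) L from rfl, hdec L hL.1, RR_unit]
    exact Fintype.card_pos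
  rw [← sum_finrank_inf ρ (xM_add (sqForm F) hn)
    (fun A x hx => eig_map_comm ρ (fun B => by rw [fC, ← xM_add, ← xM_add]; exact congrArg _ (add_comm _ _)) hx),
    ← Function.Bijective.sum_comp chi_bijective]
  calc ∑ L', Module.finrank ℂ ↥(eig ρ (fC hn) (chi L) ⊓ eig ρ (xM (sqForm F) hn) (chi L'))
      ≤ ∑ L', if Dec L' ∧ L'.comp (cg (prM F k)) = L then Fintype.card F else 0 := by
        refine Finset.sum_le_sum fun L' _ => ?_
        by_cases h' : L'.comp (cg (prM F k)) = L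
        swap
        · rw [eC_inf_zero hn ρ h', finrank_bot]; exact Nat.zero_le _
        have h0 : L' ≠ 0 := fun e => hL.1.1 (by rw [← h', e, LinearMap.zero_comp])
        by_cases hD : Dec L'
        · rw [if_pos ⟨hD, h'⟩, ← RR_unit (F := F), ← hdec L' hD]
          exact Submodule.finrank_mono inf_le_right
        · refine le_of_eq_of_le (Submodule.finrank_eq_zero.mpr ?_) (Nat.zero_le _)
          exact le_bot_iff.mp (inf_le_right.trans (le_of_eq (hz L' h0 hD)))
    _ ≤ _ := by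
        rw [← Finset.sum_filter, Finset.sum_const, smul_eq_mul, ← Fintype.card_subtype, ← Nat.card_eq_fintype_card,
          mul_comm]
        exact Nat.mul_le_mul_left _ (card_over_le hL)

include hdec hz in
/-- On such a weight space the trace of the involution is plus or minus the square of the field order. -/
theorem piece_sign {L : Module.Dual F (AltM F (k + 1 + 1))} (hL : InD2 L) :
    ∃ σ : ℤ, (σ = 1 ∨ σ = -1) ∧
      trP ρ (fC hn) (sInv h2 hn hk) (chi L) = ((σ * (Fintype.card F : ℤ) ^ 2 : ℤ) : ℂ) := by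
  classical
  obtain ⟨α, β, hαβ⟩ := exists_frame hL
  set s := sInv h2 hn hk
  set X := eig ρ (fC hn) (chi L)
  have hXinv : ∀ γ c, ∀ x ∈ X, ρ (eS h2 hn γ c) x ∈ X := fun γ c x hx =>
    eig_map_comm ρ (fun A => (fC_eS h2 hn γ c A).symm) hx
  have hrel : ∀ c c' : Fin 3 → F, ∀ x ∈ X, ρ (eS h2 hn α c) (ρ (eS h2 hn β c') x) =
      psi0 (-(2 * (c 1 * c' 1 - c 0 * c' 0 + c 2 * c' 2))) • ρ (eS h2 hn β c') (ρ (eS h2 hn α c) x) := by
    intro c c' x hx
    rw [← Module.End.mul_apply, ← map_mul, eS_comm h2 hn α β c c', map_mul, map_mul, Module.End.mul_apply,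
      Module.End.mul_apply, (mem_eig ρ).mp (hXinv α c x hx), chi_apply, map_smul, map_smul, ← bf_apply, hαβ,
      smul_eq_mul, mul_one]
  set fv : F → OmM (k + 1 + 1) (sqForm F) := fun c => eS h2 hn α ![c, 0, 0]
  set gv : F → OmM (k + 1 + 1) (sqForm F) := fun c => eS h2 hn β ![c, 0, 0]
  set fp : (Fin 2 → F) → OmM (k + 1 + 1) (sqForm F) := fun d => eS h2 hn α ![0, d 0, d 1]
  set gp : (Fin 2 → F) → OmM (k + 1 + 1) (sqForm F) := fun d => eS h2 hn β ![0, d 0, d 1]
  have hfv : ∀ a b, fv (a + b) = fv a * fv b := fun a b => by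
    simp only [fv]; rw [← eS_add]; congr 1; funext i; fin_cases i <;> simp
  have hfp : ∀ a b, fp (a + b) = fp a * fp b := fun a b => by
    simp only [fp]; rw [← eS_add]; congr 1; funext i; fin_cases i <;> simp
  have hprv : Function.Bijective fun t : F => AddChar.mulShift psi0 (2 * t) := by
    refine (Fintype.bijective_iff_injective_and_card _).mpr ⟨fun a b h => ?_, AddChar.card_eq.symm⟩
    exact mul_left_cancel₀ h2 (AddChar.to_mulShift_inj_of_isPrimitive psi0_primitive h)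
  have hprp : Function.Bijective fun t : Fin 2 → F => psiv ((-2 : F) • t) := by
    refine Function.Bijective.comp (g := psiv (n := 2)) (f := fun t : Fin 2 → F => (-2 : F) • t)
      ⟨psiv_injective, psiv_surjective⟩ ?_
    refine Finite.injective_iff_bijective.mp fun a b h => smul_right_injective _ (neg_ne_zero.mpr h2) h
  -- the pieces
  have hvX : ∀ c, ∀ x ∈ X, ρ (fv c) x ∈ X := fun c => hXinv _ _
  have hgvX : ∀ c, ∀ x ∈ X, ρ (gv c) x ∈ X := fun c => hXinv _ _
  have hrelv : ∀ t a, ∀ x ∈ X, ρ (fv a) (ρ (gv t) x) = AddChar.mulShift psi0 (2 * t) a • ρ (gv t) (ρ (fv a) x) :=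
    fun t a x hx => by
      rw [hrel _ _ x hx, AddChar.mulShift_apply]
      congr 2
      simp; ring
  have hX1 := finrank_shift ρ hfv hvX hgvX hrelv hprv
  set X1 := X ⊓ eig ρ fv 1
  have hcm : ∀ γ d (c : F), eS h2 hn γ ![0, d, c] ∈ Subgroup.centralizer (Set.range fv) := by
    intro γ d c
    rw [Subgroup.mem_centralizer_iff]
    rintro _ ⟨a, rfl⟩
    exact eS_commute h2 hn α γ (by simp)
  have hpX1 : ∀ γ (d : Fin 2 → F), ∀ x ∈ X1, ρ (eS h2 hn γ ![0, d 0, d 1]) x ∈ X1 := fun γ d x hx =>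
    Submodule.mem_inf.mpr ⟨hXinv _ _ x hx.1, eig_map_comm ρ (fun a =>
      (Subgroup.mem_centralizer_iff.mp (hcm γ _ _) _ ⟨a, rfl⟩).symm) hx.2⟩
  have hrelp : ∀ t a, ∀ x ∈ X1, ρ (fp a) (ρ (gp t) x) = psiv ((-2 : F) • t) a • ρ (gp t) (ρ (fp a) x) :=
    fun t a x hx => by
      rw [hrel _ _ x hx.1, psiv_apply]
      congr 2
      simp [dotProduct, Fin.sum_univ_two]; ring
  have hX2 := finrank_shift ρ hfp (hpX1 α) (hpX1 β) hrelp hprp
  set X2 := X1 ⊓ eig ρ fp 1
  -- the dimensions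
  obtain ⟨hpos, hle⟩ := finrank_eC hn ρ hdec hz hL
  rw [hX1, hX2, Fintype.card_fun, Fintype.card_fin] at hpos hle
  have hX2one : Module.finrank ℂ X2 = 1 := by
    have hm : 0 < Module.finrank ℂ X2 := pos_of_mul_pos_right (pos_of_mul_pos_right hpos (Nat.zero_le _)) (Nat.zero_le _)
    have hq : 0 < Fintype.card F * (Fintype.card F * Fintype.card F) := by positivity
    have : Fintype.card F * (Fintype.card F * Fintype.card F) * Module.finrank ℂ X2 ≤
        Fintype.card F * (Fintype.card F * Fintype.card F) * 1 := by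
      rw [mul_one]; refine le_of_eq_of_le ?_ hle; ring
    have := Nat.le_of_mul_le_mul_left this hq
    omega
  -- the involution
  have hsC : ∀ A, s * fC hn A * s⁻¹ = fC hn A := sInv_fC h2 hn hk
  have hsfv : ∀ c, s * fv c * s⁻¹ = fv (-c) := fun c => by
    rw [sInv_eS]; simp [fv]
  have hsp : ∀ γ (d : Fin 2 → F), s * eS h2 hn γ ![0, d 0, d 1] = eS h2 hn γ ![0, d 0, d 1] * s := fun γ d => by
    rw [← mul_inv_eq_iff_eq_mul, sInv_eS]; congr 1; funext i; fin_cases i <;> simp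
  have hsX1 : ∀ x ∈ X1, ρ s x ∈ X1 := fun x hx => Submodule.mem_inf.mpr
    ⟨map_mem_eig ρ id Function.surjective_id hsC (fun _ => rfl) hx.1,
      map_mem_eig ρ (fun c => -c) neg_surjective hsfv (fun _ => rfl) hx.2⟩
  obtain ⟨l, hl⟩ := smul_of_line ρ hX2one (g := s) (fun x hx =>
    Submodule.mem_inf.mpr ⟨hsX1 x hx.1, eig_map_comm ρ (fun d => hsp α d) hx.2⟩)
  have hX2ne : X2 ≠ ⊥ := fun h => by rw [h, finrank_bot] at hX2one; omega
  obtain ⟨y, hy, hy0⟩ := Submodule.exists_mem_ne_zero_of_ne_bot hX2ne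
  obtain ⟨σ, hσ, hσl⟩ : ∃ σ : ℤ, (σ = 1 ∨ σ = -1) ∧ (σ : ℂ) = l := by
    have e : (l * l) • y = (1 : ℂ) • y := by
      rw [one_smul, ← smul_smul, ← hl y hy, ← map_smul, ← hl y hy, ← Module.End.mul_apply, ← map_mul,
        sInv_mul_self, map_one, Module.End.one_apply]
    rcases mul_self_eq_one_iff.mp (smul_left_injective ℂ hy0 e) with h | h
    · exact ⟨1, Or.inl rfl, by simp [h]⟩
    · exact ⟨-1, Or.inr rfl, by simp [h]⟩
  have hall : ∀ x ∈ X1, ρ s x = l • x := by
    intro x hx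
    have hle' : (⨆ t : Fin 2 → F, X2.map (ρ (gp t))) ≤ LinearMap.ker (ρ s - l • 1) := by
      refine iSup_le fun t => ?_
      rintro _ ⟨z, hz', rfl⟩
      rw [LinearMap.mem_ker, LinearMap.sub_apply, LinearMap.smul_apply, Module.End.one_apply, sub_eq_zero,
        ← Module.End.mul_apply, ← map_mul, show s * gp t = gp t * s from hsp β t, map_mul, Module.End.mul_apply,
        hl z hz', map_smul]
    have h := hle' (span_pieces ρ hfp (hpX1 α) (hpX1 β) hrelp hprp hx)
    rwa [LinearMap.mem_ker, LinearMap.sub_apply, LinearMap.smul_apply, Module.End.one_apply, sub_eq_zero] at h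
  refine ⟨σ, hσ, ?_⟩
  have hcv : ∀ A c, fC hn A * fv c = fv c * fC hn A := fun A c => fC_eS h2 hn _ _ A
  rw [trP_refine_perm ρ (fC_add hn) hfv hcv s hsC (AddEquiv.neg F) hsfv (fun χ hχ => ?_)]
  · have hp := isProj_two ρ (fC_add hn) hfv hcv (chi L) (1 : AddChar F ℂ)
    have e : ρ s * (proj ρ (fC hn) (chi L) * proj ρ fv 1) = l • (proj ρ (fC hn) (chi L) * proj ρ fv 1) :=
      LinearMap.ext fun z => by rw [Module.End.mul_apply, LinearMap.smul_apply]; exact hall _ (hp.map_mem z)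
    rw [e, map_smul, hp.trace, show eig ρ (fC hn) (chi L) ⊓ eig ρ fv 1 = X1 from rfl, hX2, hX2one, ← hσl,
      Fintype.card_fun, Fintype.card_fin, smul_eq_mul]
    push_cast
    ring
  · ext w
    have h := DFunLike.congr_fun hχ (w / 2)
    rw [chiPull_apply] at h
    have e2 : χ w = χ (w / 2) * χ (w / 2) := by rw [← AddChar.map_add_eq_mul, ← two_mul, mul_div_cancel₀ w h2]
    rw [e2, AddChar.one_apply]
    nth_rewrite 1 [← h]
    rw [show (AddEquiv.neg F) (w / 2) = -(w / 2) from rfl, ← AddChar.map_add_eq_mul, neg_add_cancel,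
      AddChar.map_zero_eq_one]

end Cfsg.Lib.OrthMinDeg
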