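import Cfsg.Agent.Known.OrthMinDegree.Odd.Weyl
import Cfsg.Agent.Known.SLMinDegree.Root

/-! The class of the involution fixing a line in the special linear group. -/

set_option autoImplicit false
set_option linter.unusedSectionVars false

open Matrix Cfsg.Lib.SLMinDeg

namespace Cfsg.Lib.OrthMinDeg

universe u

variable {F : Type u} [Field F] {k : ℕ}

theorem coe_zD (hk : Odd k) :
    ((dia (zD F k) (zD_prod hk) : Matrix.SpecialLinearGroup (Fin (k + 1 + 1)) F) :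
      Matrix (Fin (k + 1 + 1)) (Fin (k + 1 + 1)) F) = (2 : F) • vecMulVec (Pi.single 0 1) (Pi.single 0 1) - 1 := by
  rw [coe_dia]
  ext i j
  rw [Matrix.sub_apply, Matrix.smul_apply, vecMulVec_apply, diagonal_apply, one_apply, smul_eq_mul]
  cases i using Fin.cases <;> cases j using Fin.cases <;>
    simp [zD, Fin.succ_ne_zero, (Fin.succ_ne_zero _).symm] <;> (try split_ifs) <;> norm_num

theorem coe_conj_zD (hk : Odd k) (h : Matrix.SpecialLinearGroup (Fin (k + 1 + 1)) F) :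
    ((h * dia (zD F k) (zD_prod hk) * h⁻¹ : Matrix.SpecialLinearGroup (Fin (k + 1 + 1)) F) :
      Matrix (Fin (k + 1 + 1)) (Fin (k + 1 + 1)) F) =
      (2 : F) • vecMulVec ((h : Matrix (Fin (k + 1 + 1)) (Fin (k + 1 + 1)) F) *ᵥ Pi.single 0 1)
        ((Pi.single 0 1 : Fin (k + 1 + 1) → F) ᵥ* ((h⁻¹ : Matrix.SpecialLinearGroup (Fin (k + 1 + 1)) F) :
          Matrix (Fin (k + 1 + 1)) (Fin (k + 1 + 1)) F)) - 1 := by
  rw [Matrix.SpecialLinearGroup.coe_mul, Matrix.SpecialLinearGroup.coe_mul, coe_zD hk, Matrix.mul_sub, mul_one,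
    Matrix.sub_mul, Matrix.mul_smul, Matrix.smul_mul, mul_vecMulVec, vecMulVec_mul,
    ← Matrix.SpecialLinearGroup.coe_mul, mul_inv_cancel, Matrix.SpecialLinearGroup.coe_one]

variable [Fintype F]

theorem card_class_zD (hk : Odd k) (h2 : (2 : F) ≠ 0) :
    (Fintype.card F - 1) *
      Nat.card {x : Matrix.SpecialLinearGroup (Fin (k + 1 + 1)) F // IsConj (dia (zD F k) (zD_prod hk)) x} =
      (Fintype.card F ^ (k + 1 + 1) - 1) * Fintype.card F ^ (k + 1) := by
  classical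
  set z : Matrix.SpecialLinearGroup (Fin (k + 1 + 1)) F := dia (zD F k) (zD_prod hk)
  let P := {p : (Fin (k + 1 + 1) → F) × (Fin (k + 1 + 1) → F) // p.2 ⬝ᵥ p.1 = 1}
  have hne : ∀ p : P, p.1.1 ≠ 0 := fun p e => by
    have := p.2
    rw [e, dotProduct_zero] at this
    exact zero_ne_one this
  -- counting the pairs
  have hcard : Nat.card P = (Fintype.card F ^ (k + 1 + 1) - 1) * Fintype.card F ^ (k + 1) := by
    choose g hg using fun u : {x : Fin (k + 1 + 1) → F // x ≠ 0} => exists_mulVec_eq u.2 0 ⟨1, by simp⟩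
    let e : P ≃ {x : Fin (k + 1 + 1) → F // x ≠ 0} × (Fin (k + 1) → F) :=
      { toFun := fun p => (⟨p.1.1, hne p⟩, Fin.tail (p.1.2 ᵥ* (g ⟨p.1.1, hne p⟩ : Matrix _ _ F)))
        invFun := fun x => ⟨(x.1.1, (Fin.cons 1 x.2 : Fin (k + 1 + 1) → F) ᵥ*
            (((g x.1)⁻¹ : Matrix.SpecialLinearGroup (Fin (k + 1 + 1)) F) : Matrix _ _ F)), by
          show _ ⬝ᵥ x.1.1 = 1
          conv_lhs => arg 2; rw [← hg x.1]
          rw [dotProduct_mulVec, vecMul_vecMul, ← Matrix.SpecialLinearGroup.coe_mul, inv_mul_cancel,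
            Matrix.SpecialLinearGroup.coe_one, vecMul_one, dotProduct_single, Fin.cons_zero, mul_one]⟩
        left_inv := fun p => by
          refine Subtype.ext (Prod.ext rfl ?_)
          set φ' := p.1.2 ᵥ* (g ⟨p.1.1, hne p⟩ : Matrix (Fin (k + 1 + 1)) (Fin (k + 1 + 1)) F) with hφ'
          have hz : φ' 0 = 1 := by
            have : φ' ⬝ᵥ (Pi.single 0 1 : Fin (k + 1 + 1) → F) = 1 := by
              rw [hφ', ← dotProduct_mulVec, hg, p.2]
            rwa [dotProduct_single, mul_one] at this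
          show (Fin.cons 1 (Fin.tail φ') : Fin (k + 1 + 1) → F) ᵥ* _ = _
          rw [show (Fin.cons 1 (Fin.tail φ') : Fin (k + 1 + 1) → F) = φ' by
              rw [← hz]; exact Fin.cons_self_tail φ',
            hφ', vecMul_vecMul, ← Matrix.SpecialLinearGroup.coe_mul, mul_inv_cancel,
            Matrix.SpecialLinearGroup.coe_one, vecMul_one]
        right_inv := fun x => by
          refine Prod.ext rfl ?_
          show Fin.tail (((Fin.cons 1 x.2 : Fin (k + 1 + 1) → F) ᵥ*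
            (((g x.1)⁻¹ : Matrix.SpecialLinearGroup (Fin (k + 1 + 1)) F) : Matrix _ _ F)) ᵥ*
            (g x.1 : Matrix (Fin (k + 1 + 1)) (Fin (k + 1 + 1)) F)) = _
          rw [vecMul_vecMul, ← Matrix.SpecialLinearGroup.coe_mul, inv_mul_cancel,
            Matrix.SpecialLinearGroup.coe_one, vecMul_one, Fin.tail_cons] }
    rw [Nat.card_congr e, Nat.card_prod, card_fun_ne_zero, Nat.card_eq_fintype_card, Fintype.card_fun, Fintype.card_fin]
  -- the map to the class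
  have hex : ∀ p : P, ∃ h : Matrix.SpecialLinearGroup (Fin (k + 1 + 1)) F,
      (h : Matrix (Fin (k + 1 + 1)) (Fin (k + 1 + 1)) F) *ᵥ Pi.single 0 1 = p.1.1 ∧
      (Pi.single 0 1 : Fin (k + 1 + 1) → F) ᵥ* ((h⁻¹ : Matrix.SpecialLinearGroup (Fin (k + 1 + 1)) F) :
        Matrix (Fin (k + 1 + 1)) (Fin (k + 1 + 1)) F) = p.1.2 := by
    intro p
    obtain ⟨g, hg⟩ := exists_mulVec_eq (hne p) 0 ⟨1, by simp⟩
    set φ' := p.1.2 ᵥ* (g : Matrix (Fin (k + 1 + 1)) (Fin (k + 1 + 1)) F) with hφ'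
    have hz : φ' 0 = 1 := by
      have : φ' ⬝ᵥ (Pi.single 0 1 : Fin (k + 1 + 1) → F) = 1 := by rw [hφ', ← dotProduct_mulVec, hg, p.2]
      rwa [dotProduct_single, mul_one] at this
    refine ⟨g * qf (-Fin.tail φ'), ?_, ?_⟩
    · rw [Matrix.SpecialLinearGroup.coe_mul, ← mulVec_mulVec, qf, coe_tv, add_mulVec, one_mulVec, vecMulVec_mulVec,
        qf_dot]
      simpa using hg
    · have e : φ' ᵥ* ((qf (-Fin.tail φ') : Matrix.SpecialLinearGroup (Fin (k + 1 + 1)) F) :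
          Matrix (Fin (k + 1 + 1)) (Fin (k + 1 + 1)) F) = Pi.single 0 1 := by
        rw [qf, coe_tv, vecMul_add, vecMul_one, vecMul_vecMulVec, dotProduct_single, hz, mul_one, one_smul]
        funext i
        cases i using Fin.cases <;> simp [hz, Fin.tail]
      rw [← e, hφ', vecMul_vecMul, vecMul_vecMul, ← Matrix.SpecialLinearGroup.coe_mul,
        ← Matrix.SpecialLinearGroup.coe_mul, ← mul_assoc, mul_inv_cancel, Matrix.SpecialLinearGroup.coe_one, vecMul_one]
  choose h hh1 hh2 using hex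
  let π : P → {x : Matrix.SpecialLinearGroup (Fin (k + 1 + 1)) F // IsConj z x} := fun p =>
    ⟨h p * z * (h p)⁻¹, isConj_iff.mpr ⟨h p, rfl⟩⟩
  have hπ : ∀ p, ((π p).1 : Matrix (Fin (k + 1 + 1)) (Fin (k + 1 + 1)) F) = (2 : F) • vecMulVec p.1.1 p.1.2 - 1 :=
    fun p => by rw [coe_conj_zD hk, hh1, hh2]
  haveI := Fintype.ofFinite {x : Matrix.SpecialLinearGroup (Fin (k + 1 + 1)) F // IsConj z x}
  rw [← hcard, Nat.card_congr (Equiv.sigmaFiberEquiv π).symm, Nat.card_sigma,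
    Finset.sum_congr rfl fun x _ => ?_, Finset.sum_const, Finset.card_univ,
    ← Nat.card_eq_fintype_card (α := {x : Matrix.SpecialLinearGroup (Fin (k + 1 + 1)) F // _}), smul_eq_mul, mul_comm]
  obtain ⟨c, hc⟩ := isConj_iff.mp x.2
  let p₀ : P := ⟨((c : Matrix (Fin (k + 1 + 1)) (Fin (k + 1 + 1)) F) *ᵥ Pi.single 0 1,
    (Pi.single 0 1 : Fin (k + 1 + 1) → F) ᵥ* ((c⁻¹ : Matrix.SpecialLinearGroup (Fin (k + 1 + 1)) F) :
      Matrix (Fin (k + 1 + 1)) (Fin (k + 1 + 1)) F)), by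
    show _ ⬝ᵥ _ = 1
    rw [dotProduct_mulVec, vecMul_vecMul, ← Matrix.SpecialLinearGroup.coe_mul, inv_mul_cancel,
      Matrix.SpecialLinearGroup.coe_one, vecMul_one, single_dotProduct, Pi.single_eq_same, mul_one]⟩
  have hx : π p₀ = x := Subtype.ext (sl_ext (by rw [hπ, ← hc, coe_conj_zD hk]))
  rw [show Fintype.card F - 1 = Nat.card Fˣ by rw [Nat.card_eq_fintype_card, Fintype.card_units]]
  refine (Nat.card_congr ?_).symm
  refine Equiv.ofBijective (fun t : Fˣ => (⟨⟨((t : F) • p₀.1.1, (t : F)⁻¹ • p₀.1.2), by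
      show _ ⬝ᵥ _ = 1
      rw [smul_dotProduct, dotProduct_smul, p₀.2, smul_eq_mul, smul_eq_mul, mul_one, inv_mul_cancel₀ t.ne_zero]⟩, by
      refine (Subtype.ext (sl_ext ?_) : π _ = π p₀).trans hx
      rw [hπ, hπ]
      congr 2
      ext i j
      simp [vecMulVec_apply, mul_mul_mul_comm]⟩ :
        {p : P // π p = x})) ⟨fun s t e => ?_, fun p => ?_⟩
  · have e' : (s : F) • p₀.1.1 = (t : F) • p₀.1.1 := congrArg (fun y : {p : P // π p = x} => y.1.1.1) e
    exact Units.ext (smul_left_injective F (hne p₀) e')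
  · have hp := congrArg (fun y => (y.1 : Matrix (Fin (k + 1 + 1)) (Fin (k + 1 + 1)) F)) (p.2.trans hx.symm)
    simp only [hπ] at hp
    have hv : vecMulVec p.1.1.1 p.1.1.2 = vecMulVec p₀.1.1 p₀.1.2 :=
      smul_right_injective (Matrix (Fin (k + 1 + 1)) (Fin (k + 1 + 1)) F) h2 (sub_left_injective hp)
    have e1 := congrArg (fun A => A *ᵥ p₀.1.1) hv
    simp only [vecMulVec_mulVec, p₀.2, MulOpposite.op_one, one_smul] at e1
    set s := p.1.1.2 ⬝ᵥ p₀.1.1
    have hs : s ≠ 0 := fun e => hne p₀ (by rw [← e1, e]; simp)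
    have e2 := congrArg (fun A => p.1.1.2 ᵥ* A) hv
    simp only [vecMul_vecMulVec, p.1.2, one_smul] at e2
    refine ⟨(Units.mk0 s hs)⁻¹, Subtype.ext (Subtype.ext (Prod.ext ?_ ?_))⟩
    · show ((Units.mk0 s hs)⁻¹ : Fˣ).val • p₀.1.1 = p.1.1.1
      rw [Units.val_inv_eq_inv_val, Units.val_mk0, ← e1]
      funext i
      simp [hs]
    · show (((Units.mk0 s hs)⁻¹ : Fˣ).val)⁻¹ • p₀.1.2 = p.1.1.2
      rw [Units.val_inv_eq_inv_val, Units.val_mk0, inv_inv, e2]

end Cfsg.Lib.OrthMinDeg
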