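import Cfsg.Agent.Known.OrthMinDegree.Odd.Class
import Cfsg.Agent.Known.OrthMinDegree.Mixed.Twist

/-! Minus the reflection along an anisotropic vector of a hyperbolic pair. -/

set_option autoImplicit false
set_option linter.unusedSectionVars false
set_option linter.style.haveILetI false

open Matrix Cfsg.Lib.Classical Cfsg.Lib.Classical.Refl Cfsg.Lib.Classical.HypQuad Cfsg.Lib.SLMinDeg

namespace Cfsg.Lib.OrthMinDeg

universe u v

variable (F : Type u) [Field F] (k : ℕ)

/-- The vector `e₀ - f₀`. -/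
def vB : (Fin (k + 1 + 1) ⊕ Fin (k + 1 + 1)) ⊕ Unit → F :=
  Sum.elim (Sum.elim (Pi.single 0 1) (Pi.single 0 (-1))) 0

/-- The first pair is fixed and the others negated. -/
def zD : Fin (k + 1 + 1) → F := Fin.cons 1 fun _ => -1

variable {F k}

theorem zD_prod (hk : Odd k) : ∏ i, zD F k i = 1 := by
  simp [zD, Fin.prod_univ_succ, hk.add_one.neg_one_pow]

theorem Q_vB : mixForm (k + 1 + 1) (sqForm F) (vB F k) = -1 := by
  rw [vB, mix_elim, map_zero, add_zero, plus_dot, Sum.elim_comp_inl, Sum.elim_comp_inr, single_dotProduct,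
    Pi.single_eq_same, one_mul]

theorem Q_vB_ne : mixForm (k + 1 + 1) (sqForm F) (vB F k) ≠ 0 := by rw [Q_vB]; exact neg_ne_zero.mpr one_ne_zero

theorem inL_or_inR_coord (p r : Fin (k + 1 + 1) → F) (x : Fin (k + 1 + 1) ⊕ Fin (k + 1 + 1) → F) :
    QuadraticMap.polar (⇑(plusForm (k + 1 + 1) F)) (Sum.elim p r) x =
      p ⬝ᵥ (x ∘ Sum.inr) + (x ∘ Sum.inl) ⬝ᵥ r := by
  rw [polar_dot, Sum.elim_comp_inl, Sum.elim_comp_inr]

variable [Fintype F] (h2 : (2 : F) ≠ 0) (hn : 3 ≤ k + 1 + 1)

/-- The short root element of the first vector. -/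
noncomputable def uB : OmM (k + 1 + 1) (sqForm F) := uM (sqForm F) (sqForm_nondeg h2) hn (Pi.single 0 1) 1

/-- Minus the reflection along `e₀ - f₀`, through the Weyl element of the first pair. -/
noncomputable def sB (hk : Odd k) : OmM (k + 1 + 1) (sqForm F) :=
  lvM (sqForm F) hn (dia (zD F k) (zD_prod hk)) * (uB h2 hn * sigM (sqForm F) (uB h2 hn) * uB h2 hn)

theorem polar_swapped : QuadraticMap.polar (⇑(mixForm (k + 1 + 1) (sqForm F)))
    (Sum.elim (inR (Pi.single 0 1)) 0) (inW 1) = 0 := by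
  rw [inW, polar_mix]
  simp [QuadraticMap.polar]

theorem mix_swapped : mixForm (k + 1 + 1) (sqForm F) (Sum.elim (inR (Pi.single 0 1)) 0) = 0 := by
  rw [mix_elim, plus_inR, map_zero, add_zero]

theorem sigM_uB : sigM (sqForm F) (uB (k := k) h2 hn) =
    sgM (sqForm F) (sqForm_nondeg h2) hn (mix_swapped (F := F) (k := k)) polar_swapped := by
  refine Subtype.ext (sgM_conj (sqForm F) (sqForm_nondeg h2) hn _ ?_ ?_)
  · refine (embP_mulVec (sqForm F) swp _ 0).trans ?_
    rw [mat_swp, swap_inL_zero]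
  · refine (embP_mulVec (sqForm F) swp 0 1).trans ?_
    rw [mulVec_zero]; rfl

theorem sB_eq (hk : Odd k) : (sB h2 hn hk).1 = negRefl (mixForm (k + 1 + 1) (sqForm F)) (vB F k) Q_vB_ne := by
  refine ext_mulVec _ fun x => ?_
  obtain ⟨p, r, t, rfl⟩ : ∃ p r t, x = Sum.elim (Sum.elim p r) t := ⟨x ∘ Sum.inl ∘ Sum.inl, x ∘ Sum.inl ∘ Sum.inr,
    x ∘ Sum.inr, funext fun i => by rcases i with (i | i) | i <;> rfl⟩
  have e1 : ∀ (p r : Fin (k + 1 + 1) → F) (t : Unit → F),
      mat (mixForm (k + 1 + 1) (sqForm F)) (uB (k := k) h2 hn).1 *ᵥ Sum.elim (Sum.elim p r) t =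
        Sum.elim (Sum.elim (p + (-(2 * t ()) - r 0) • Pi.single 0 1) r) (fun _ => t () + r 0) := by
    intro p r t
    simp only [uB, uM, sgM]
    rw [mat_siegelG, siegelMap, mix_inW, inLp, inL, inW, polar_mix, polar_mix]
    simp only [Sum.elim_comp_inl, Sum.elim_comp_inr, inL_or_inR_coord, QuadraticMap.polar_zero_left, zero_dotProduct,
      dotProduct_zero, add_zero, single_dotProduct, one_mul, polar_sqForm, sqForm_apply, Pi.one_apply, Pi.zero_apply,
      mul_one, zero_add]
    funext i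
    rcases i with (i | i) | i <;> simp [sub_eq_add_neg, add_comm, mul_comm, polar_dot, Pi.single_apply]
  have e2 : ∀ (p r : Fin (k + 1 + 1) → F) (t : Unit → F),
      mat (mixForm (k + 1 + 1) (sqForm F)) (sigM (sqForm F) (uB (k := k) h2 hn)).1 *ᵥ Sum.elim (Sum.elim p r) t =
        Sum.elim (Sum.elim p (r + (-(2 * t ()) - p 0) • Pi.single 0 1)) (fun _ => t () + p 0) := by
    intro p r t
    rw [sigM_uB]
    simp only [sgM]
    rw [mat_siegelG, siegelMap, mix_inW, inR, inW, polar_mix, polar_mix]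
    simp only [Sum.elim_comp_inl, Sum.elim_comp_inr, inL_or_inR_coord, QuadraticMap.polar_zero_left, zero_dotProduct,
      dotProduct_zero, add_zero, zero_add, dotProduct_single, one_mul, polar_sqForm, sqForm_apply, Pi.one_apply,
      Pi.zero_apply, mul_one]
    funext i
    rcases i with (i | i) | i <;> simp [sub_eq_add_neg, add_comm, mul_comm, polar_dot, Pi.single_apply]
  have e3 : ∀ (p r : Fin (k + 1 + 1) → F) (t : Unit → F),
      mat (mixForm (k + 1 + 1) (sqForm F)) (lvM (sqForm F) hn (dia (zD F k) (zD_prod hk))).1 *ᵥ Sum.elim (Sum.elim p r) t =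
        Sum.elim (Sum.elim (fun i => zD F k i * p i) (fun i => zD F k i * r i)) t := by
    intro p r t
    refine (embP_mulVec (sqForm F) (lvG hn (dia (zD F k) (zD_prod hk))).1 _ t).trans ?_
    rw [coe_lvG, mat_lvI, fromBlocks_mulVec, Sum.elim_comp_inl, Sum.elim_comp_inr, zero_mulVec, zero_mulVec, add_zero,
      zero_add]
    congr 2
    · funext i; simp [coe_dia, mulVec_diagonal]
    · have hp : ∏ i, (zD F k i)⁻¹ = 1 := by rw [Finset.prod_inv_distrib, zD_prod hk, inv_one]
      rw [← map_inv, dia_inv _ _ hp]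
      funext i
      cases i using Fin.cases <;> simp [coe_dia, mulVec_diagonal, zD, inv_neg]
  rw [sB, Subgroup.coe_mul, Subgroup.coe_mul, Subgroup.coe_mul, mat, Refl.mulVec_mul, Refl.mulVec_mul, Refl.mulVec_mul]
  rw [e1, e2, e1, e3, negRefl_mulVec, Q_vB, vB, polar_mix, Sum.elim_comp_inl, Sum.elim_comp_inl, Sum.elim_comp_inr,
    Sum.elim_comp_inr, inL_or_inR_coord, Sum.elim_comp_inl, Sum.elim_comp_inr, QuadraticMap.polar_zero_left, add_zero,
    single_dotProduct, dotProduct_single]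
  funext i
  rcases i with (i | i) | i
  · cases i using Fin.cases with
    | zero => simp [zD]; ring
    | succ i => simp [zD, Fin.succ_ne_zero]
  · cases i using Fin.cases with
    | zero => simp [zD]; ring
    | succ i => simp [zD, Fin.succ_ne_zero]
  · simp; ring

include h2 hn in
theorem sB_mem (hk : Odd k) : negRefl (mixForm (k + 1 + 1) (sqForm F)) (vB F k) Q_vB_ne ∈
    Cfsg.Omega F (⇑(mixForm (k + 1 + 1) (sqForm F))) := sB_eq h2 hn hk ▸ (sB h2 hn hk).2

end Cfsg.Lib.OrthMinDeg
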